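import Cfsg.Agent.ReeAbelian.Base
import Cfsg.Agent.Ree.Torus.Local
import Cfsg.Agent.Blocks.DihedralOdd
import Cfsg.Agent.ReeInvolveThree.Centralizers
import Cfsg.Agent.SelfCentFour.Counting

/-!
Groups of Ree type: the centralizers of the elements of prime order `r ∤ 6`, and of the elements of order a
power of 3 when the Sylow 3-subgroups are abelian.
-/

set_option autoImplicit false
set_option linter.unusedSectionVars false
set_option linter.style.haveILetI false

namespace Cfsg.Lib.ReeAb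

open Subgroup Cfsg.Lib.Dihedral

universe u

variable {G : Type u} [Group G] [Finite G] {t : G} {E : Subgroup G} {q : ℕ}

theorem odd_card_of_three {H : Subgroup G} (hH : IsPGroup 3 H) : Odd (Nat.card H) := by
  haveI : Fact (Nat.Prime 3) := ⟨Nat.prime_three⟩
  obtain ⟨k, hk⟩ := IsPGroup.iff_card.1 hH
  rw [hk]
  exact Odd.pow (by decide)

theorem isPGroup_zpowers_three {x : G} {k : ℕ} (hx : orderOf x = 3 ^ k) : IsPGroup 3 (zpowers x) :=
  IsPGroup.of_card (n := k) (by rw [Nat.card_zpowers, hx])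

/-- The fixed points of an element of prime order normalising a subgroup, modulo that prime. -/
theorem card_modEq_fixed {r : ℕ} [Fact r.Prime] {y : G} (hy : orderOf y = r) {Q : Subgroup G}
    (hn : y ∈ normalizer (Q : Set G)) :
    Nat.card Q ≡ Nat.card (Q ⊓ centralizer ({y} : Set G) : Subgroup G) [MOD r] := by
  classical
  letI act : MulAction (zpowers y) Q :=
    { smul := fun n x => ⟨(n : G) * x * (n : G)⁻¹, (mem_normalizer_iff.1 (zpowers_le.2 hn n.2) _).1 x.2⟩
      one_smul := fun x => Subtype.ext (by show (1 : G) * x * (1 : G)⁻¹ = x; group)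
      mul_smul := fun a b x => Subtype.ext (by
        show (a : G) * b * x * ((a : G) * b)⁻¹ = (a : G) * ((b : G) * x * (b : G)⁻¹) * (a : G)⁻¹
        group) }
  have hR : IsPGroup r (zpowers y) := IsPGroup.of_card (n := 1) (by rw [Nat.card_zpowers, hy, pow_one])
  refine (hR.card_modEq_card_fixedPoints Q).trans (congrArg (· % r) (Nat.card_congr
    { toFun := fun x => ⟨x.1.1, x.1.2, mem_centralizer_singleton_iff.2 (by
        have h := congrArg Subtype.val (x.2 ⟨y, mem_zpowers y⟩)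
        exact (mul_inv_eq_iff_eq_mul.1 h).symm)⟩
      invFun := fun x => ⟨⟨x.1, x.2.1⟩, fun n => Subtype.ext (by
        obtain ⟨i, hi⟩ := mem_zpowers_iff.1 n.2
        show (n : G) * x.1 * (n : G)⁻¹ = x.1
        rw [← hi, ← ((show Commute x.1 y from mem_centralizer_singleton_iff.1 x.2.2).zpow_right i).eq,
          mul_inv_cancel_right])⟩
      left_inv := fun x => Subtype.ext (Subtype.ext rfl)
      right_inv := fun x => Subtype.ext rfl }))

/-- A subgroup is no larger than the centralizer of `y` in it times the set of its conjugates of `y`. -/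
theorem card_le_cen_mul {Q : Subgroup G} {y : G} {S : Type*} [Finite S] (f : Q → S)
    (hf : ∀ a b : Q, f a = f b → (a : G) * y * (a : G)⁻¹ = (b : G) * y * (b : G)⁻¹) :
    Nat.card Q ≤ Nat.card (Q ⊓ centralizer ({y} : Set G) : Subgroup G) * Nat.card S := by
  classical
  letI := Fintype.ofFinite Q
  letI := Fintype.ofFinite S
  rw [Nat.card_eq_fintype_card (α := Q), Nat.card_eq_fintype_card (α := S), ← Finset.card_univ,
    Finset.card_eq_sum_card_fiberwise (f := f) (t := Finset.univ) fun x _ => Finset.mem_univ _, mul_comm]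
  refine (Finset.sum_le_card_nsmul _ _ (Nat.card (Q ⊓ centralizer ({y} : Set G) : Subgroup G)) fun s _ => ?_).trans
    (by rw [Finset.card_univ, smul_eq_mul])
  by_cases h : ∃ a : Q, f a = s
  · obtain ⟨a, ha⟩ := h
    rw [← Fintype.card_subtype, ← Nat.card_eq_fintype_card]
    refine Nat.card_le_card_of_injective
      (fun b => ⟨(a : G)⁻¹ * b.1, Q.mul_mem (Q.inv_mem a.2) b.1.2, mem_centralizer_singleton_iff.2 ?_⟩)
      fun b c h => ?_
    · have h' := hf b.1 a (b.2.trans ha.symm)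
      calc (a : G)⁻¹ * b.1 * y = (a : G)⁻¹ * ((b.1 : G) * y * (b.1 : G)⁻¹) * b.1 := by group
        _ = _ := by rw [h']; group
    · exact Subtype.ext (Subtype.ext (mul_left_cancel (congrArg Subtype.val h)))
  · rw [Finset.card_eq_zero.2 (Finset.filter_eq_empty_iff.2 fun a _ ha => h ⟨a, ha⟩)]
    exact Nat.zero_le _

namespace Base

variable (B : Base t E q)
include B

/-- The conjugate of a 3-element of `C(t)` lies in a Sylow 3-subgroup of `E`. -/
theorem exists_sylow_E {x : G} {k : ℕ} (hx : orderOf x = 3 ^ k) (hc : Commute x t) :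
    ∃ hxE : x ∈ E, ∃ P : Sylow 3 E, (⟨x, hxE⟩ : E) ∈ P := by
  haveI : Fact (Nat.Prime 3) := ⟨Nat.prime_three⟩
  have hxE := B.odd_mem_E (hx ▸ Odd.pow (by decide)) hc
  obtain ⟨P, hP⟩ := (IsPGroup.of_card (p := 3) (n := k) (G := zpowers (⟨x, hxE⟩ : E))
    (by rw [Nat.card_zpowers, Subgroup.orderOf_mk, hx])).exists_le_sylow
  exact ⟨hxE, P, hP (mem_zpowers _)⟩

/-- An involution of `E` centralizes no nontrivial 3-element of `E`. -/
theorem no_invol_E {x e : G} {k : ℕ} (hx : orderOf x = 3 ^ (k + 1)) (hxE : x ∈ E) (he : e ∈ E) (he2 : e * e = 1)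
    (hc : Commute x e) : e = 1 := by
  haveI : Fact (Nat.Prime 3) := ⟨Nat.prime_three⟩
  obtain ⟨_, P, hP⟩ := B.exists_sylow_E hx ((B.comm x hxE).symm)
  have hx1 : (⟨x, hxE⟩ : E) ≠ 1 := fun h => by
    have := congrArg Subtype.val h
    simp only [OneMemClass.coe_one] at this
    rw [this, orderOf_one] at hx
    exact absurd hx (Nat.ne_of_lt (Nat.one_lt_pow (Nat.succ_ne_zero k) (by norm_num)))
  have hmem : (⟨e, he⟩ : E) ∈ (P : Subgroup E) :=
    (B.psl.cen P _ hP hx1).le (mem_centralizer_singleton_iff.2 (Subtype.ext hc.eq.symm))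
  have ho : Odd (orderOf (⟨e, he⟩ : E)) :=
    (odd_card_of_three P.2).of_dvd_nat (Subgroup.orderOf_dvd_natCard _ hmem)
  exact congrArg Subtype.val (Ree.eq_one_of_odd_sq ho (Subtype.ext he2))

/-- Two commuting involutions centralizing a nontrivial 3-element are equal. -/
theorem invol_eq {x a b : G} {k : ℕ} (hx : orderOf x = 3 ^ (k + 1)) (ha : orderOf a = 2) (hb : orderOf b = 2)
    (hxa : Commute x a) (hxb : Commute x b) (hab : Commute a b) : a = b := by
  obtain ⟨g, hg⟩ := B.exists_conj ha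
  set c : G →* G := (MulAut.conj g).toMonoidHom with hc
  have hct : c a = t := hg
  refine (MulAut.conj g).injective (show c a = c b from ?_)
  rw [hct]
  have hxt : Commute (c x) t := hct ▸ hxa.map c
  have hbt : Commute (c b) t := hct ▸ (hab.symm.map c)
  have hxo : orderOf (c x) = 3 ^ (k + 1) := ((MulAut.conj g).orderOf_eq x).trans hx
  have hbo : orderOf (c b) = 2 := ((MulAut.conj g).orderOf_eq b).trans hb
  obtain ⟨hxE, -, -⟩ := B.exists_sylow_E hxo hxt
  have hb2 : c b * c b = 1 := Ree.sq_one_of_order hbo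
  obtain ⟨e, he, r⟩ := B.split (c b) hbt
  have hee : e * e = 1 ∧ Commute (c x) e := by
    rcases r with r | r
    · exact ⟨r ▸ hb2, r ▸ hxb.map c⟩
    · have e1 : e = t * c b := by rw [r, ← mul_assoc, B.tt, one_mul]
      refine ⟨?_, e1 ▸ hxt.mul_right (hxb.map c)⟩
      rw [e1, hbt.mul_mul_mul_comm, B.tt, hb2, one_mul]
  have he1 := B.no_invol_E hxo hxE he hee.1 hee.2
  rcases r with r | r
  · rw [r, he1, orderOf_one] at hbo; omega
  · rw [r, he1, mul_one]

/-- A 3-subgroup centralizing an involution has order at most `q`. -/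
theorem three_cen_le {H : Subgroup G} (hH : IsPGroup 3 H) {s : G} (hs : orderOf s = 2)
    (hc : ∀ x ∈ H, Commute x s) : Nat.card H ≤ q := by
  haveI : Fact (Nat.Prime 3) := ⟨Nat.prime_three⟩
  obtain ⟨g, hg⟩ := B.exists_conj hs
  set H' := H.map (MulAut.conj g).toMonoidHom with hH'
  have hH3 : IsPGroup 3 H' := hH.map _
  have hle : H' ≤ E := B.le_E (odd_card_of_three hH3) (by
    rintro _ ⟨x, hx, rfl⟩
    exact hg ▸ (hc x hx).map (MulAut.conj g).toMonoidHom)
  obtain ⟨P, hP⟩ := (hH3.of_equiv (subgroupOfEquivOfLe hle).symm).exists_le_sylow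
  calc Nat.card H = Nat.card H' := (card_map_of_injective (MulAut.conj g).injective).symm
    _ = Nat.card (H'.subgroupOf E) := (Nat.card_congr (subgroupOfEquivOfLe hle).toEquiv).symm
    _ ≤ Nat.card (P : Subgroup E) := card_le_of_le hP
    _ = q := B.psl.sylow P

/-- An odd subgroup centralizing the involution `s` and inverted by an involution of `C(s)`. -/
theorem card_inverted {H : Subgroup G} (hH : Odd (Nat.card H)) {s u : G} (hs : orderOf s = 2)
    (hus : Commute u s) (hc : ∀ x ∈ H, Commute x s) (hi : ∀ x ∈ H, u * x * u⁻¹ = x⁻¹) :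
    Nat.card H ∣ (q - 1) / 2 ∨ Nat.card H ∣ (q + 1) / 4 := by
  obtain ⟨g, hg⟩ := B.exists_conj hs
  set c : G →* G := (MulAut.conj g).toMonoidHom with hcdef
  have hcs : c s = t := hg
  set H' := H.map c with hH'
  have hle : H' ≤ E := B.le_E (by rw [hH', card_map_of_injective (MulAut.conj g).injective]; exact hH) (by
    rintro _ ⟨x, hx, rfl⟩
    exact hcs ▸ (hc x hx).map c)
  obtain ⟨e, he, r⟩ := B.split (c u) (hcs ▸ hus.map c)
  have h := B.psl.inverted (H'.subgroupOf E)
    (by rw [Nat.card_congr (subgroupOfEquivOfLe hle).toEquiv, hH', card_map_of_injective (MulAut.conj g).injective]; exact hH)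
    ⟨e, he⟩ (by
      rintro ⟨y, hyE⟩ hy
      obtain ⟨x, hx, rfl⟩ := mem_subgroupOf.1 hy
      refine Subtype.ext ?_
      push_cast
      have h2 : c u * c x * (c u)⁻¹ = (c x)⁻¹ := by rw [← map_inv, ← map_mul, ← map_mul, hi x hx, map_inv]
      rcases r with r | r
      · rw [← r]; exact h2
      · have htx : Commute t (e * c x * e⁻¹) := B.comm _ (mul_mem (mul_mem he (hle (mem_map_of_mem c hx))) (inv_mem he))
        rw [r, show t * e * c x * (t * e)⁻¹ = t * (e * c x * e⁻¹) * t⁻¹ by group, htx.eq, mul_inv_cancel_right] at h2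
        exact h2)
  rwa [Nat.card_congr (subgroupOfEquivOfLe hle).toEquiv, hH', card_map_of_injective (MulAut.conj g).injective] at h

/-- A cyclic subgroup of order `(q - 1) / 2` of `E` with its properties. -/
theorem exists_torus : ∃ T : Subgroup G, T ≤ E ∧ Nat.card T = (q - 1) / 2 ∧
    (∀ a ∈ T, a ≠ 1 → ∀ x ∈ E, Commute x a → x ∈ T) ∧
    ∃ w ∈ E, orderOf w = 2 ∧ ∀ a ∈ T, w * a * w⁻¹ = a⁻¹ := by
  haveI : Fact (Nat.Prime 3) := ⟨Nat.prime_three⟩
  obtain ⟨P⟩ := (inferInstance : Nonempty (Sylow 3 E))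
  obtain ⟨T, -, -, hT, hTc, w, hw, hwT⟩ := B.psl.torus P
  refine ⟨T.map E.subtype, map_subtype_le _, by rw [card_map_of_injective E.subtype_injective, hT], ?_,
    w, w.2, by rw [orderOf_coe]; exact hw, ?_⟩
  · rintro _ ⟨a, ha, rfl⟩ ha1 x hx hxa
    refine ⟨⟨x, hx⟩, (hTc a ha fun h => ha1 (by rw [h]; rfl)).le (mem_centralizer_singleton_iff.2 ?_), rfl⟩
    exact Subtype.ext hxa.eq
  · rintro _ ⟨a, ha, rfl⟩
    exact congrArg Subtype.val (hwT a ha)

/-- The centralizer of an element of prime order dividing `(q - 1) / 2`. -/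
theorem cen_A {r : ℕ} (hr : r.Prime) (hrd : r ∣ (q - 1) / 2) {a : G} (ha : orderOf a = r) :
    Nat.card (centralizer ({a} : Set G)) ∣ 2 * ((q - 1) / 2) * ((q + 1) / 4) := by
  haveI : Fact (Nat.Prime 2) := ⟨Nat.prime_two⟩
  haveI : Fact r.Prime := ⟨hr⟩
  obtain ⟨T, hTE, hTc, hTcen, w, hwE, hwo, hwT⟩ := B.exists_torus
  obtain ⟨g, hga⟩ := exists_conj_mem hr (K := T) (y := a) (k := 1) (by
    rw [(B.factorization_eq hr).1 hrd, hTc]
    exact Nat.ordProj_dvd _ _) (by rw [ha, pow_one])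
  have hmap : (centralizer ({a} : Set G)).map (MulAut.conj g).toMonoidHom = centralizer ({g * a * g⁻¹} : Set G) := by
    ext y
    obtain ⟨x, rfl⟩ := (MulAut.conj g).surjective y
    rw [mem_centralizer_singleton_iff, show (MulAut.conj g) x = (MulAut.conj g).toMonoidHom x from rfl,
      mem_map_iff_mem (f := (MulAut.conj g).toMonoidHom) (MulAut.conj g).injective, mem_centralizer_singleton_iff]
    show x * a = a * x ↔ (MulAut.conj g) x * (MulAut.conj g) a = (MulAut.conj g) a * (MulAut.conj g) x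
    rw [← map_mul, ← map_mul, (MulAut.conj g).injective.eq_iff]
  rw [← card_map_of_injective (f := (MulAut.conj g).toMonoidHom) (MulAut.conj g).injective (K := centralizer ({a} : Set G)),
    hmap]
  have ha1 : g * a * g⁻¹ ≠ 1 := fun e => Ree.ne_one_of_order hr.ne_one ha (by
    rwa [mul_inv_eq_one, mul_eq_left] at e)
  generalize g * a * g⁻¹ = a₀ at hga ha1
  clear hmap
  set C := centralizer ({a₀} : Set G) with hC
  have haE := hTE hga
  have hTodd : Odd (Nat.card T) := by
    obtain ⟨A, C', D, hA, -, -, -, hAo, -⟩ := B.parts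
    rw [hTc, show (q - 1) / 2 = A by omega]
    exact hAo
  have hta : Commute t a₀ := B.comm a₀ haE
  have htC : t ∈ C := mem_centralizer_singleton_iff.2 hta.eq
  -- the centralizer of `t` in `C`
  have hCt : ∀ x ∈ C, Commute x t → ∃ e ∈ T, x = e ∨ x = t * e := by
    intro x hx hxt
    obtain ⟨e, he, r⟩ := B.split x hxt
    refine ⟨e, hTcen a₀ hga ha1 e he ?_, r⟩
    rcases r with r | r
    · exact r ▸ mem_centralizer_singleton_iff.1 hx
    · rw [show e = t * x by rw [r, ← mul_assoc, B.tt, one_mul]]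
      exact hta.mul_left (mem_centralizer_singleton_iff.1 hx)
  -- a Sylow 2-subgroup of `C` has order two
  have hS2 : ∀ S : Sylow 2 C, Nat.card (S : Subgroup C) = 2 := by
    intro S
    obtain ⟨S₀, hS₀⟩ := (IsPGroup.of_card (p := 2) (n := 1) (G := zpowers (⟨t, htC⟩ : C))
      (by rw [Nat.card_zpowers, Subgroup.orderOf_mk, B.ord, pow_one])).exists_le_sylow
    suffices h : (S₀ : Subgroup C) = zpowers (⟨t, htC⟩ : C) by
      rw [S.card_eq_multiplicity, ← S₀.card_eq_multiplicity, h, Nat.card_zpowers, Subgroup.orderOf_mk, B.ord]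
    refine le_antisymm (fun x hx => ?_) hS₀
    obtain ⟨R, hR⟩ := (S₀.2.map C.subtype).exists_le_sylow
    haveI := B.two_comm R
    have hxR : (x : G) ∈ (R : Subgroup G) := hR (mem_map_of_mem C.subtype hx)
    have htR : t ∈ (R : Subgroup G) := hR (mem_map_of_mem C.subtype (hS₀ (mem_zpowers (⟨t, htC⟩ : C))))
    have hxt : Commute (x : G) t := congrArg Subtype.val (mul_comm' (⟨(x : G), hxR⟩ : (R : Subgroup G)) ⟨t, htR⟩)
    obtain ⟨j, hj⟩ := IsPGroup.iff_orderOf.1 R.2 ⟨(x : G), hxR⟩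
    have hxx := B.two_sq x ⟨j, by rwa [Subgroup.orderOf_mk] at hj⟩
    obtain ⟨e, he, r⟩ := hCt x x.2 hxt
    have hee : e * e = 1 := by
      rcases r with r | r
      · exact r ▸ hxx
      · rw [r, (B.comm e (hTE he)).symm.mul_mul_mul_comm, B.tt, one_mul] at hxx
        exact hxx
    have he1 : e = 1 := Ree.eq_one_of_odd_sq (hTodd.of_dvd_nat (T.orderOf_dvd_natCard he)) hee
    rcases r with r | r
    · rw [show x = 1 from Subtype.ext (r.trans he1)]; exact one_mem _
    · rw [show x = (⟨t, htC⟩ : C) from Subtype.ext (by rw [r, he1, mul_one])]; exact mem_zpowers _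
  -- the normal complement
  have h2C : 2 ∣ Nat.card C := (B.ord ▸ C.orderOf_dvd_natCard htC)
  obtain ⟨O, hON, hOi⟩ : ∃ O : Subgroup C, O.Normal ∧ O.index = 2 := by
    obtain ⟨S⟩ := (inferInstance : Nonempty (Sylow 2 C))
    have hcyc : IsCyclic (S : Subgroup C) := isCyclic_of_prime_card (p := 2) (hS2 S)
    have hcompl := IsCyclic.isComplement' ((Nat.minFac_eq_two_iff _).2 h2C) hcyc
    exact ⟨_, MonoidHom.normal_ker _, by rw [hcompl.symm.index_eq_card]; exact hS2 S⟩
  haveI := hON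
  have hOodd : Odd (Nat.card O) := by
    rw [← Nat.not_even_iff_odd]
    intro he
    obtain ⟨S⟩ := (inferInstance : Nonempty (Sylow 2 C))
    have h4 : 2 ^ 2 ∣ Nat.card (S : Subgroup C) :=
      S.pow_dvd_card_of_pow_dvd_card (by rw [← O.card_mul_index, hOi, pow_two]; exact Nat.mul_dvd_mul_right he.two_dvd 2)
    rw [hS2 S] at h4
    norm_num at h4
  set L := O.map C.subtype with hL
  have hLc : Nat.card L = Nat.card O := card_map_of_injective C.subtype_injective
  have hoddmem : ∀ x : C, x ∈ O ↔ Odd (orderOf x) := by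
    refine fun x => ⟨fun hx => hOodd.of_dvd_nat (O.orderOf_dvd_natCard hx), fun hx => ?_⟩
    obtain ⟨j, hj⟩ := Ree.exists_sq_pow hx
    rw [hj, ← pow_two]
    exact pow_mem (hOi ▸ pow_index_mem (H := O) x) j
  have hLmem : ∀ x : G, x ∈ L ↔ x ∈ C ∧ Odd (orderOf x) := fun x => by
    constructor
    · rintro ⟨y, hy, rfl⟩
      exact ⟨y.2, by rw [Subgroup.coe_subtype, orderOf_coe]; exact (hoddmem y).1 hy⟩
    · rintro ⟨hxC, hx⟩
      exact ⟨⟨x, hxC⟩, (hoddmem _).2 (by rwa [Subgroup.orderOf_mk]), rfl⟩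
  -- the four-group
  have hconj : ∀ h : G, (h * a₀ * h⁻¹ = a₀ ∨ h * a₀ * h⁻¹ = a₀⁻¹) → ∀ x ∈ L, h * x * h⁻¹ ∈ L := by
    intro h hh x hx
    obtain ⟨hxC, hxo⟩ := (hLmem x).1 hx
    refine (hLmem _).2 ⟨mem_centralizer_singleton_iff.2 ?_,
      ((MulAut.conj h).orderOf_eq x).symm ▸ hxo⟩
    have h' : Commute (h * x * h⁻¹) (h * a₀ * h⁻¹) :=
      (show Commute x a₀ from mem_centralizer_singleton_iff.1 hxC).map (MulAut.conj h).toMonoidHom
    rcases hh with e | e <;> rw [e] at h'
    · exact h'.eq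
    · exact (inv_inv a₀ ▸ h'.inv_right : Commute (h * x * h⁻¹) a₀).eq
  have ht' : t * a₀ * t⁻¹ = a₀ := by rw [hta.eq, mul_inv_cancel_right]
  have hw' : w * a₀ * w⁻¹ = a₀⁻¹ := hwT a₀ hga
  have htw : Commute t w := B.comm w hwE
  have hww : w * w = 1 := Ree.sq_one_of_order hwo
  have hinv : ∀ h : G, h * h = 1 → (h * a₀ * h⁻¹ = a₀ ∨ h * a₀ * h⁻¹ = a₀⁻¹) → InvAct L h := fun h hh ha => by
    refine ⟨hconj h ha, fun x _ => ?_⟩
    rw [show h * (h * x * h⁻¹) * h⁻¹ = (h * h) * x * (h * h)⁻¹ by group, hh]; group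
  have hform := four_group_formula (L := L)
    (fun x hx => by rw [← even_iff_two_dvd, Nat.not_even_iff_odd]; exact ((hLmem x).1 hx).2)
    (hinv t B.tt (Or.inl ht')) (hinv w hww (Or.inr hw'))
    (fun x _ => by
      rw [show t * (w * x * w⁻¹) * t⁻¹ = (t * w) * x * (t * w)⁻¹ by group, htw.eq]
      group)
  have hfixt : ∀ x, x ∈ fixed L t ↔ x ∈ T := by
    intro x
    rw [mem_fixed]
    constructor
    · rintro ⟨hx, hxt⟩
      obtain ⟨hxC, hxo⟩ := (hLmem x).1 hx
      have hc : Commute x t := (mul_inv_eq_iff_eq_mul.1 hxt).symm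
      exact hTcen a₀ hga ha1 x (B.odd_mem_E hxo hc) (mem_centralizer_singleton_iff.1 hxC)
    · intro hx
      refine ⟨(hLmem x).2 ⟨mem_centralizer_singleton_iff.2 ?_, hTodd.of_dvd_nat (T.orderOf_dvd_natCard hx)⟩,
        by rw [(B.comm x (hTE hx)).eq, mul_inv_cancel_right]⟩
      have hcy : ∀ y ∈ T, ∀ z ∈ T, Commute y z := by
        intro y hy z hz
        by_cases hz1 : z = 1
        · exact hz1 ▸ Commute.one_right y
        have h' : ∀ p ∈ T, ∀ s ∈ T, p * s = s * p := fun p hp s hs => by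
          have e := hwT (p * s) (mul_mem hp hs)
          rw [show w * (p * s) * w⁻¹ = (w * p * w⁻¹) * (w * s * w⁻¹) by group, hwT p hp, hwT s hs,
            _root_.mul_inv_rev] at e
          rw [← inv_inv (p * s), _root_.mul_inv_rev, ← e, _root_.mul_inv_rev, inv_inv, inv_inv]
        exact h' y hy z hz
      exact (hcy x hx a₀ hga).eq
  have hcard_t : Nat.card (fixed L t) = (q - 1) / 2 := by
    rw [← hTc]; exact Nat.card_congr (Equiv.subtypeEquivRight hfixt)
  have hfp : ∀ h : G, (∀ a ∈ T, h * a * h⁻¹ = a⁻¹) → ∀ x ∈ fixed L h, Commute x t → x = 1 := by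
    intro h hh x hx hxt
    obtain ⟨hxL, hxh⟩ := mem_fixed.1 hx
    have hxT : x ∈ T := (hfixt x).1 (mem_fixed.2 ⟨hxL, by rw [← hxt.eq, mul_inv_cancel_right]⟩)
    rw [hh x hxT] at hxh
    exact Ree.eq_one_of_odd_sq ((hLmem x).1 hxL).2 (by nth_rw 1 [← hxh]; exact inv_mul_cancel x)
  have hone : Nat.card (fixed (fixed L t) w) = 1 := by
    rw [Subgroup.card_eq_one, eq_bot_iff]
    intro x hx
    obtain ⟨hxt, hxw⟩ := mem_fixed.1 hx
    obtain ⟨hxL, hxt'⟩ := mem_fixed.1 hxt
    exact mem_bot.2 (hfp w hwT x (mem_fixed.2 ⟨hxL, hxw⟩) (mul_inv_eq_iff_eq_mul.1 hxt').symm)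
  have hfix : ∀ h : G, orderOf h = 2 → Commute t h → (∀ a ∈ T, h * a * h⁻¹ = a⁻¹) →
      Nat.card (fixed L h) ∣ (q - 1) / 2 ∨ Nat.card (fixed L h) ∣ (q + 1) / 4 := by
    intro h ho hth hh
    have hodd : Odd (Nat.card (fixed L h)) :=
      (hLc ▸ hOodd).of_dvd_nat (card_dvd_of_le (fun x hx => (mem_fixed.1 hx).1))
    refine B.card_inverted hodd ho (u := t) hth
      (fun x hx => (mul_inv_eq_iff_eq_mul.1 (mem_fixed.1 hx).2).symm) ?_
    refine Cfsg.Lib.ReeThree.fpf_inverts B.tt (fun x hx => mem_fixed.2 ⟨hconj t (Or.inl ht') x (mem_fixed.1 hx).1, ?_⟩)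
      (fun x hx hxt => hfp h hh x hx hxt) |>.1
    rw [show h * (t * x * t⁻¹) * h⁻¹ = (h * t) * x * (h * t)⁻¹ by group, ← hth.eq,
      show t * h * x * (t * h)⁻¹ = t * (h * x * h⁻¹) * t⁻¹ by group, (mem_fixed.1 hx).2]
  have htwT : ∀ a ∈ T, t * w * a * (t * w)⁻¹ = a⁻¹ := fun a ha => by
    rw [show t * w * a * (t * w)⁻¹ = t * (w * a * w⁻¹) * t⁻¹ by group, hwT a ha,
      (B.comm _ (hTE (inv_mem ha))).eq, mul_inv_cancel_right]
  have htwo : orderOf (t * w) = 2 := orderOf_eq_prime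
    (by rw [htw.mul_pow, pow_two, pow_two, B.tt, hww, one_mul])
    (fun e => B.disj (by rw [eq_inv_of_mul_eq_one_left e]; exact inv_mem hwE))
  rw [hone, one_pow, mul_one, hcard_t] at hform
  have h1 := hfix w hwo htw hwT
  have h2 := hfix (t * w) htwo ((Commute.refl t).mul_right htw) htwT
  -- the order of `L` divides `((q - 1) / 2) ((q + 1) / 4)`
  obtain ⟨A, C', D, hA, hC', hD, hG, hAo, hCo, -, hA3, hC3, hD3, hAC, hAD, hCD, -⟩ := B.parts
  rw [show (q - 1) / 2 = A by omega] at h1 h2 hform ⊢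
  rw [show (q + 1) / 4 = C' by omega] at h1 h2 ⊢
  have hCcard : Nat.card C = 2 * Nat.card L := by rw [hLc, ← hOi, mul_comm, O.card_mul_index]
  rw [hCcard, mul_assoc]
  refine Nat.mul_dvd_mul_left 2 ?_
  have hdG : Nat.card L ∣ A * C' * (q ^ 3 * 8 * D) := by
    rw [show A * C' * (q ^ 3 * 8 * D) = q ^ 3 * 8 * A * C' * D by ring, ← hG]
    exact card_subgroup_dvd_card L
  refine Nat.Coprime.dvd_of_dvd_mul_right ?_ hdG
  have hLdvd : Nat.card L ∣ A * (A * C') * (A * C') := by
    rw [hform]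
    exact mul_dvd_mul (mul_dvd_mul dvd_rfl (h1.elim (fun h => h.mul_right _) (fun h => h.mul_left _)))
      (h2.elim (fun h => h.mul_right _) (fun h => h.mul_left _))
  refine Nat.Coprime.coprime_dvd_left hLdvd ?_
  have hq3 : ∀ n : ℕ, ¬ 3 ∣ n → n.Coprime (q ^ 3) := fun n hn => by
    obtain ⟨m, -, rfl⟩ := B.q_eq
    exact (((Nat.prime_three.coprime_iff_not_dvd.2 hn).pow_left _).pow_left 3).symm
  have h8 : ∀ n : ℕ, Odd n → n.Coprime 8 := fun n hn =>
    (Nat.coprime_two_right.2 hn).pow_right 3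
  have hAD' : A.Coprime (q ^ 3 * 8 * D) := ((hq3 A hA3).mul_right (h8 A hAo)).mul_right hAD
  have hCD' : C'.Coprime (q ^ 3 * 8 * D) := ((hq3 C' hC3).mul_right (h8 C' hCo)).mul_right hCD
  exact (hAD'.mul_left (hAD'.mul_left hCD')).mul_left (hAD'.mul_left hCD')

/-- The centralizer of an element of prime order dividing `(q + 1) / 4`. -/
theorem cen_C {r : ℕ} (hr : r.Prime) (hrd : r ∣ (q + 1) / 4) {y : G} (hy : orderOf y = r) :
    Nat.card (centralizer ({y} : Set G)) ∣ 120 * (q + 1) := by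
  classical
  haveI : Fact r.Prime := ⟨hr⟩
  haveI : Fact (Nat.Prime 3) := ⟨Nat.prime_three⟩
  obtain ⟨A, C', D, hA, hC', hD, hG, hAo, hCo, -⟩ := B.parts
  have hr2 : Odd r := hCo.of_dvd_nat (show r ∣ C' by rwa [show C' = (q + 1) / 4 by omega])
  obtain ⟨T, -, -, -, v, hvE, hv, -⟩ := B.exists_torus
  obtain ⟨Φ, hΦ⟩ := B.frame v hvE hv
  -- the centralizer of `v` in `E`
  have hcv : Nat.card (centralizer ({(⟨v, hvE⟩ : E)} : Set E)) = q + 1 := by
    exact B.psl.cen_invol _ (by rw [Subgroup.orderOf_mk]; exact hv)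
  set R := (centralizer ({(⟨v, hvE⟩ : E)} : Set E)).map E.subtype with hR
  have hRc : Nat.card R = q + 1 := by rw [hR, card_map_of_injective E.subtype_injective, hcv]
  obtain ⟨g, hgy⟩ := exists_conj_mem hr (K := R) (y := y) (k := 1) (by
    rw [(B.factorization_eq hr).2 hrd, hRc]
    exact (Nat.ordProj_dvd _ _).trans (Nat.div_dvd_of_dvd (by omega))) (by rw [hy, pow_one])
  set y₀ := g * y * g⁻¹ with hy₀
  have hy₀o : orderOf y₀ = r := ((MulAut.conj g).orderOf_eq y).trans hy
  have hy₀1 : y₀ ≠ 1 := Ree.ne_one_of_order hr.ne_one hy₀o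
  obtain ⟨⟨e, heE⟩, he, hee⟩ := hgy
  have hyK : y₀ ∈ Φ.K := (Φ.mem_K y₀).2 ⟨hy₀o ▸ hr2, hee ▸ (B.comm e heE).symm, by
    rw [← hee, hΦ]
    exact congrArg Subtype.val (mem_centralizer_singleton_iff.1 he)⟩
  have hKR : Φ.K ≤ R := fun k hk => by
    obtain ⟨ho, hkt, hkv⟩ := (Φ.mem_K k).1 hk
    refine ⟨⟨k, B.odd_mem_E ho hkt⟩, mem_centralizer_singleton_iff.2 (Subtype.ext ?_), rfl⟩
    rw [hΦ] at hkv
    exact hkv.eq
  have hKdvd : Nat.card Φ.K ∣ q + 1 := hRc ▸ card_dvd_of_le hKR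
  -- the conjugate
  have hcard : Nat.card (centralizer ({y} : Set G)) = Nat.card (centralizer ({y₀} : Set G)) := by
    refine Nat.card_congr ((MulAut.conj g).toEquiv.subtypeEquiv fun x => ?_)
    rw [mem_centralizer_singleton_iff, mem_centralizer_singleton_iff]
    show x * y = y * x ↔ (MulAut.conj g) x * (MulAut.conj g) y = (MulAut.conj g) y * (MulAut.conj g) x
    rw [← map_mul, ← map_mul, (MulAut.conj g).injective.eq_iff]
  rw [hcard]
  set C := centralizer ({y₀} : Set G) with hC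
  have hT0 : Φ.T0 ≤ C := fun x hx => mem_centralizer_singleton_iff.2 (Φ.T0_comm hx (Φ.K_le_T0 hyK)).eq
  have hT0c : Nat.card Φ.T0 ∣ 4 * Nat.card Φ.K := by
    have hV : Nat.card Φ.V = 4 := by
      refine le_antisymm ?_ ?_
      · have : (Φ.V : Set G).ncard ≤ ({1, t, Φ.v, t * Φ.v} : Set G).ncard :=
          Set.ncard_le_ncard (fun x hx => by
            rcases (Φ.mem_V.1 hx) with e | e | e | e <;> simp [e]) (Set.toFinite _)
        rw [← Nat.card_coe_set_eq] at this
        refine this.trans ?_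
        refine le_trans (Set.ncard_insert_le _ _) (Nat.succ_le_succ (le_trans (Set.ncard_insert_le _ _) (Nat.succ_le_succ
          (le_trans (Set.ncard_insert_le _ _) (Nat.succ_le_succ (Set.ncard_singleton _).le)))))
      · by_contra h
        have hfin : ({1, t, Φ.v, t * Φ.v} : Finset G).card = 4 := by
          rw [Finset.card_eq_four]
          exact ⟨1, t, Φ.v, t * Φ.v, Φ.t_ne.symm, Φ.v_ne_one.symm, Φ.tv_ne.symm, Φ.v_ne.symm,
            fun e => Φ.v_ne_one (mul_eq_left.1 e.symm), fun e => Φ.t_ne (mul_eq_right.1 e.symm), rfl⟩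
        have hsub : ((({1, t, Φ.v, t * Φ.v} : Finset G) : Set G)) ⊆ (Φ.V : Set G) := by
          intro x hx
          simp only [Finset.coe_insert, Finset.coe_singleton, Set.mem_insert_iff, Set.mem_singleton_iff] at hx
          exact Φ.mem_V.2 hx
        have := Set.ncard_le_ncard hsub (Set.toFinite _)
        rw [Set.ncard_coe_finset, hfin, ← Nat.card_coe_set_eq] at this
        exact h this
    refine dvd_of_eq ?_
    rw [← hV, ← Nat.card_prod]
    refine (Nat.card_congr (Equiv.ofBijective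
      (fun p : Φ.V × Φ.K => (⟨(p.1 : G) * p.2, Φ.mul_mem_T0 p.1.2 p.2.2⟩ : Φ.T0)) ⟨fun a b h => ?_, ?_⟩)).symm
    · obtain ⟨h1, h2⟩ := Φ.split_unique a.1.2 b.1.2 a.2.2 b.2.2 (congrArg Subtype.val h)
      exact Prod.ext (Subtype.ext h1) (Subtype.ext h2)
    · rintro ⟨x, w, hw, k, hk, rfl⟩
      exact ⟨(⟨w, hw⟩, ⟨k, hk⟩), rfl⟩
  rcases Φ.cent_cases hyK hy₀1 with h | ⟨-, π, hπ, hker⟩
  · -- at most three cosets of `T0`
    obtain ⟨j, hj⟩ := card_dvd_of_le hT0
    have hle : Nat.card C ≤ 3 * Nat.card Φ.T0 := by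
      have hmem : ∀ x : C, ∃ p : Fin 3 × Φ.T0, (x : G) = Φ.m ^ (p.1 : ℕ) * (p.2 : G) := fun x => by
        obtain ⟨i, hi, hxi, -⟩ := Φ.norm_cent hyK hy₀1 (h x (mem_centralizer_singleton_iff.1 x.2))
          (mem_centralizer_singleton_iff.1 x.2)
        exact ⟨(⟨i, hi⟩, ⟨_, hxi⟩), by group⟩
      choose f hf using hmem
      refine (Nat.card_le_card_of_injective f fun a b h' => Subtype.ext (by rw [hf a, hf b, h'])).trans ?_
      simp
    rw [hj, mul_comm 3] at hle
    have hj3 : j ≤ 3 := Nat.le_of_mul_le_mul_left hle Nat.card_pos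
    have hj0 : j ≠ 0 := fun e => Nat.card_pos.ne' (by rw [hj, e, mul_zero] : Nat.card C = 0)
    have hj30 : j ∣ 30 := by
      rcases (show j = 1 ∨ j = 2 ∨ j = 3 by omega) with rfl | rfl | rfl <;> norm_num
    rw [hj, show 120 * (q + 1) = 4 * (q + 1) * 30 by ring]
    exact mul_dvd_mul (hT0c.trans (Nat.mul_dvd_mul_left 4 hKdvd)) hj30
  · have hk : π.ker = Φ.K.subgroupOf C := by ext x; rw [MonoidHom.mem_ker, hker, mem_subgroupOf]
    have h1 := π.ker.card_mul_index
    rw [Subgroup.index_ker, MonoidHom.range_eq_top.2 hπ, Subgroup.card_top, hk,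
      Nat.card_congr (subgroupOfEquivOfLe ((Φ.K_le_T0).trans hT0)).toEquiv] at h1
    have h60 : Nat.card (alternatingGroup (Fin 5)) = 60 := by
      rw [Nat.card_eq_fintype_card]; decide +kernel
    rw [h60] at h1
    rw [← h1, show 120 * (q + 1) = (q + 1) * 120 by ring]
    exact mul_dvd_mul hKdvd (by norm_num)

/-- The centralizer of an element of prime order dividing `q ^ 2 - q + 1`. -/
theorem cen_D {r : ℕ} (hr : r.Prime) (hrd : r ∣ q ^ 2 - q + 1) {g : G} (hg : orderOf g = r) :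
    Nat.card (centralizer ({g} : Set G)) ∣ q ^ 2 - q + 1 := by
  obtain ⟨A, C', D, hA, hC', hD, hG, hAo, hCo, hDo, hA3, hC3, hD3, hAC, hAD, hCD, hD5⟩ := B.parts
  obtain ⟨m, -, hm⟩ := B.q_eq
  rw [← hD] at hrd ⊢
  have hr2 : r ≠ 2 := fun e => Nat.not_even_iff_odd.2 hDo (even_iff_two_dvd.2 (e ▸ hrd))
  have hr3 : r ≠ 3 := fun e => hD3 (e ▸ hrd)
  have hr5 : r ≠ 5 := fun e => hD5 (e ▸ hrd)
  have hrq : ¬ r ∣ q := fun h => hr3 ((Nat.prime_dvd_prime_iff_eq hr Nat.prime_three).1 (hr.dvd_of_dvd_pow (hm ▸ h)))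
  have hrA : ¬ r ∣ A := fun h => hr.not_dvd_one (hAD.gcd_eq_one ▸ Nat.dvd_gcd h hrd)
  have hrC : ¬ r ∣ C' := fun h => hr.not_dvd_one (hCD.gcd_eq_one ▸ Nat.dvd_gcd h hrd)
  have hr4 : ¬ r ∣ 4 := fun h => hr2 ((Nat.prime_dvd_prime_iff_eq hr Nat.prime_two).1 (hr.dvd_of_dvd_pow (show r ∣ 2 ^ 2 from h)))
  set C := centralizer ({g} : Set G) with hC
  have hgC : g ∈ C := mem_centralizer_singleton_iff.2 rfl
  -- the prime divisors
  have key : ∀ p : ℕ, p.Prime → p ∣ Nat.card C → p ∣ D := by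
    intro p hp hpd
    haveI : Fact p.Prime := ⟨hp⟩
    obtain ⟨⟨x, hxC⟩, hx⟩ := exists_prime_orderOf_dvd_card' (G := C) p hpd
    rw [Subgroup.orderOf_mk] at hx
    have hxg : Commute x g := mem_centralizer_singleton_iff.1 hxC
    have hgx : r ∣ Nat.card (centralizer ({x} : Set G)) :=
      hg ▸ Subgroup.orderOf_dvd_natCard _ (mem_centralizer_singleton_iff.2 hxg.symm.eq)
    rcases B.prime_cases hp (hpd.trans (card_subgroup_dvd_card C)) with rfl | rfl | h | h | h
    · exfalso
      obtain ⟨c, hc⟩ := B.exists_conj hx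
      have hgt : Commute ((MulAut.conj c) g) t := hc ▸ (hxg.symm.map (MulAut.conj c).toMonoidHom)
      have hgE : (MulAut.conj c) g ∈ E := B.odd_mem_E
        (by rw [MulEquiv.orderOf_eq, hg]; exact hDo.of_dvd_nat hrd) hgt
      have h2 : r ∣ q * (q ^ 2 - 1) := by
        rw [← B.card_E]
        exact ((hg ▸ ((MulAut.conj c).orderOf_eq g).symm ▸ E.orderOf_dvd_natCard hgE)).mul_left 2
      rcases hr.dvd_mul.1 h2 with h' | h'
      · exact hrq h'
      · have e : q ^ 2 - 1 = (2 * A) * (4 * C') := by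
          rw [← hA, ← hC']
          have := B.q_ge
          zify [Nat.one_le_pow 2 q (by omega), (by omega : 1 ≤ q)]
          ring
        rw [e] at h'
        rcases hr.dvd_mul.1 h' with h'' | h'' <;> rcases hr.dvd_mul.1 h'' with k | k
        · exact hr2 ((Nat.prime_dvd_prime_iff_eq hr Nat.prime_two).1 k)
        · exact hrA k
        · exact hr4 k
        · exact hrC k
    · exact (B.no_large r hr (hD ▸ hrd) x g 0 (by rw [hx]; rfl) hg hxg).elim
    · exfalso
      have h' := hgx.trans (B.cen_A hp h hx)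
      rw [show (q - 1) / 2 = A by omega, show (q + 1) / 4 = C' by omega] at h'
      rcases hr.dvd_mul.1 h' with h'' | h''
      · rcases hr.dvd_mul.1 h'' with k | k
        · exact hr2 ((Nat.prime_dvd_prime_iff_eq hr Nat.prime_two).1 k)
        · exact hrA k
      · exact hrC h''
    · exfalso
      have h' := hgx.trans (B.cen_C hp h hx)
      rcases hr.dvd_mul.1 h' with h'' | h''
      · rcases hr.dvd_mul.1 (show r ∣ 8 * 15 from h'') with k | k
        · exact hr2 ((Nat.prime_dvd_prime_iff_eq hr Nat.prime_two).1 (hr.dvd_of_dvd_pow (show r ∣ 2 ^ 3 from k)))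
        · rcases hr.dvd_mul.1 (show r ∣ 3 * 5 from k) with j | j
          · exact hr3 ((Nat.prime_dvd_prime_iff_eq hr Nat.prime_three).1 j)
          · exact hr5 ((Nat.prime_dvd_prime_iff_eq hr (by norm_num)).1 j)
      · rw [hC'] at h''
        rcases hr.dvd_mul.1 h'' with k | k
        · exact hr4 k
        · exact hrC k
    · exact hD ▸ h
  -- hence the order divides `D`
  have hdG : Nat.card C ∣ q ^ 3 * 8 * A * C' * D := hG ▸ card_subgroup_dvd_card C
  refine Nat.Coprime.dvd_of_dvd_mul_left (Nat.coprime_of_dvd fun p hp h1 h2 => ?_) hdG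
  have hpD := key p hp h1
  rcases hp.dvd_mul.1 h2 with h | h
  · rcases hp.dvd_mul.1 h with h | h
    · rcases hp.dvd_mul.1 h with h | h
      · exact hD3 ((Nat.prime_dvd_prime_iff_eq hp Nat.prime_three).1
          (hp.dvd_of_dvd_pow (hm ▸ hp.dvd_of_dvd_pow h)) ▸ hpD)
      · exact Nat.not_even_iff_odd.2 hDo (even_iff_two_dvd.2
          ((Nat.prime_dvd_prime_iff_eq hp Nat.prime_two).1 (hp.dvd_of_dvd_pow (show p ∣ 2 ^ 3 from h)) ▸ hpD))
    · exact hp.not_dvd_one (hAD.gcd_eq_one ▸ Nat.dvd_gcd h hpD)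
  · exact hp.not_dvd_one (hCD.gcd_eq_one ▸ Nat.dvd_gcd h hpD)

/-- The nontrivial elements of order a power of a prime dividing `(q-1)/2` or `q²-q+1` have small centralizers. -/
theorem small_cen {r : ℕ} (hr : r.Prime) (hrd : r ∣ (q - 1) / 2 ∨ r ∣ q ^ 2 - q + 1) {g : G} {k : ℕ}
    (hg : orderOf g = r ^ (k + 1)) : Nat.card (centralizer ({g} : Set G)) < q ^ 2 + q := by
  have hq := B.q_ge
  have hqq : q * q = q ^ 2 := (pow_two q).symm
  have hle : Nat.card (centralizer ({g} : Set G)) ≤ Nat.card (centralizer ({g ^ r ^ k} : Set G)) :=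
    card_le_of_le fun x hx => mem_centralizer_singleton_iff.2
      ((show Commute x g from mem_centralizer_singleton_iff.1 hx).pow_right _).eq
  have hgk : orderOf (g ^ r ^ k) = r := by
    rw [orderOf_pow' _ (pow_ne_zero _ hr.ne_zero), hg, Nat.gcd_eq_right (pow_dvd_pow _ (Nat.le_succ k)), pow_succ,
      Nat.mul_div_cancel_left _ (pow_pos hr.pos k)]
  refine lt_of_le_of_lt hle ?_
  rcases hrd with h | h
  · refine lt_of_le_of_lt (Nat.le_of_dvd (Nat.mul_pos (Nat.mul_pos two_pos (by omega)) (by omega))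
      (B.cen_A hr h hgk)) ?_
    calc 2 * ((q - 1) / 2) * ((q + 1) / 4) ≤ q * ((q + 1) / 4) := Nat.mul_le_mul_right _ (by omega)
      _ ≤ q * q := Nat.mul_le_mul_left _ (by omega)
      _ < q ^ 2 + q := by omega
  · have := Nat.le_of_dvd (Nat.succ_pos _) (B.cen_D hr h hgk)
    omega

/-- With abelian Sylow 3-subgroups: the elements of odd order centralizing a nontrivial element of a
Sylow 3-subgroup lie in it. -/
theorem cen_three (hA : ∀ P : Sylow 3 G, IsMulCommutative ↥(P : Subgroup G)) {P : Sylow 3 G} {x : G}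
    (hx : x ∈ P) (hx1 : x ≠ 1) {g : G} (hg : Odd (orderOf g)) (hgx : Commute g x) : g ∈ P := by
  classical
  haveI : Fact (Nat.Prime 2) := ⟨Nat.prime_two⟩
  haveI : Fact (Nat.Prime 3) := ⟨Nat.prime_three⟩
  obtain ⟨A, C', D, hA', hC', hD, hG, hAo, hCo, hDo, hA3, hC3, hD3, hAC, hAD, hCD, hD5⟩ := B.parts
  obtain ⟨m, hm, hqm⟩ := B.q_eq
  obtain ⟨k, hk⟩ := IsPGroup.iff_orderOf.1 P.2 ⟨x, hx⟩
  rw [Subgroup.orderOf_mk] at hk
  obtain ⟨j, rfl⟩ : ∃ j, k = j + 1 :=
    ⟨k - 1, by rcases k with _ | k; · exact absurd (orderOf_eq_one_iff.1 (by simpa using hk)) hx1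
               · rfl⟩
  set C := centralizer ({x} : Set G) with hC
  have hPC : (P : Subgroup G) ≤ C := fun y hy => by
    haveI := hA P
    exact mem_centralizer_singleton_iff.2 (congrArg Subtype.val (mul_comm' (⟨y, hy⟩ : (P : Subgroup G)) ⟨x, hx⟩))
  -- the elements of order two form at most one
  have h4 : ¬ 4 ∣ Nat.card C := by
    intro h
    obtain ⟨S⟩ := (inferInstance : Nonempty (Sylow 2 C))
    have h4S : 4 ∣ Nat.card (S : Subgroup C) := S.pow_dvd_card_of_pow_dvd_card (n := 2) h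
    haveI : Nontrivial (S : Subgroup C) := Finite.one_lt_card_iff_nontrivial.1 (by
      have := Nat.le_of_dvd Nat.card_pos h4S
      omega)
    obtain ⟨R, hR⟩ := (S.2.map C.subtype).exists_le_sylow
    haveI := B.two_comm R
    obtain ⟨⟨a, ha⟩, ha1⟩ := exists_ne (1 : (S : Subgroup C))
    have hall : ∀ b : (S : Subgroup C), b ≠ 1 → ((b : C) : G) = (a : G) := by
      intro b hb1
      have hso : ∀ c : (S : Subgroup C), c ≠ 1 → orderOf ((c : C) : G) = 2 := fun c hc => by
        obtain ⟨i, hi⟩ := IsPGroup.iff_orderOf.1 S.2 c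
        refine orderOf_eq_prime (by rw [pow_two]; exact B.two_sq _ ⟨i, by rw [orderOf_coe, orderOf_coe]; exact hi⟩)
          fun e => hc (Subtype.ext (Subtype.ext e))
      refine B.invol_eq hk (hso b hb1) (hso ⟨a, ha⟩ ha1)
        (show Commute x ((b : C) : G) from (mem_centralizer_singleton_iff.1 (b : C).2).symm)
        (mem_centralizer_singleton_iff.1 a.2).symm ?_
      exact congrArg Subtype.val (mul_comm' (⟨_, hR (mem_map_of_mem C.subtype b.2)⟩ : (R : Subgroup G))
        ⟨_, hR (mem_map_of_mem C.subtype ha)⟩)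
    have : Nat.card (S : Subgroup C) ≤ 2 := by
      refine (Nat.card_le_card_of_injective (fun b : (S : Subgroup C) => (if b = 1 then 0 else 1 : Fin 2))
        fun b c h => ?_).trans (by simp)
      by_cases hb : b = 1 <;> by_cases hc : c = 1
      · rw [hb, hc]
      · simp [hb, hc] at h
      · simp [hb, hc] at h
      · exact Subtype.ext (Subtype.ext ((hall b hb).trans (hall c hc).symm))
    exact absurd (Nat.le_of_dvd Nat.card_pos h4S) (by omega)
  obtain ⟨H, hHodd, hHle, hHmem⟩ : ∃ H : Subgroup G, Odd (Nat.card H) ∧ H ≤ C ∧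
      ∀ y ∈ C, Odd (orderOf y) → y ∈ H := by
    by_cases h2 : 2 ∣ Nat.card C
    · obtain ⟨⟨r, hr⟩, hr2⟩ := exists_prime_orderOf_dvd_card' (G := C) 2 h2
      rw [Subgroup.orderOf_mk] at hr2
      obtain ⟨L, hL, -, -⟩ := SelfCentFour.exists_half C h4 hr hr2
      refine ⟨L, Nat.odd_iff.2 (Nat.two_dvd_ne_zero.1 fun h => ?_), fun y hy => ((hL y).1 hy).1,
        fun y hy ho => (hL y).2 ⟨hy, fun h => Nat.not_even_iff_odd.2 ho (even_iff_two_dvd.2 h)⟩⟩
      obtain ⟨⟨z, hz⟩, hz2⟩ := exists_prime_orderOf_dvd_card' (G := L) 2 h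
      rw [Subgroup.orderOf_mk] at hz2
      exact ((hL z).1 hz).2 (hz2 ▸ dvd_rfl)
    · exact ⟨C, Nat.odd_iff.2 (Nat.two_dvd_ne_zero.1 h2), le_rfl, fun y hy _ => hy⟩
  have hgH : g ∈ H := hHmem g (mem_centralizer_singleton_iff.2 hgx.eq) hg
  have hPH : (P : Subgroup G) ≤ H := fun y hy =>
    hHmem y (hPC hy) ((odd_card_of_three P.2).of_dvd_nat (Subgroup.orderOf_dvd_natCard _ hy))
  have hPcard : ∀ Q : Sylow 3 G, Nat.card (Q : Subgroup G) = q ^ 3 := fun Q => by
    rw [Q.card_eq_multiplicity, hqm, ← pow_mul]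
    congr 1
    have hq27 := B.q_ge
    have hq0 : q ≠ 0 := by omega
    have hA0 : A ≠ 0 := by omega
    have hC0 : C' ≠ 0 := by omega
    have hD0 : D ≠ 0 := by omega
    rw [hG, Nat.factorization_mul (by positivity) hD0, Nat.factorization_mul (by positivity) hC0,
      Nat.factorization_mul (by positivity) hA0, Nat.factorization_mul (pow_ne_zero 3 hq0) (by norm_num)]
    simp only [Finsupp.add_apply]
    rw [Nat.factorization_eq_zero_of_not_dvd hA3, Nat.factorization_eq_zero_of_not_dvd hC3,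
      Nat.factorization_eq_zero_of_not_dvd hD3, Nat.factorization_eq_zero_of_not_dvd (show ¬ 3 ∣ 8 by norm_num),
      hqm, ← pow_mul, Nat.Prime.factorization_pow Nat.prime_three, Finsupp.single_eq_same]
    omega
  -- the primes of `H` other than `3`
  have hprimes : ∀ r, r.Prime → r ∣ Nat.card H → r ≠ 3 → r ∣ C' ∧ ∀ y : G, orderOf y = r →
      Nat.card (centralizer ({y} : Set G)) ∣ 120 * (q + 1) := by
    intro r hr hrd hr3
    haveI : Fact r.Prime := ⟨hr⟩
    obtain ⟨⟨y, hyH⟩, hy⟩ := exists_prime_orderOf_dvd_card' (G := H) r hrd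
    rw [Subgroup.orderOf_mk] at hy
    have hyx : Commute y x := mem_centralizer_singleton_iff.1 (hHle hyH)
    rcases B.prime_cases hr (hrd.trans (card_subgroup_dvd_card H)) with rfl | rfl | h | h | h
    · exact absurd (even_iff_two_dvd.2 hrd) (Nat.not_even_iff_odd.2 hHodd)
    · exact absurd rfl hr3
    · exfalso
      have h3 : 3 ∣ Nat.card (centralizer ({y} : Set G)) :=
        (hk ▸ dvd_pow_self 3 (Nat.succ_ne_zero j)).trans
          (Subgroup.orderOf_dvd_natCard _ (mem_centralizer_singleton_iff.2 hyx.symm.eq))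
      have h' := h3.trans (B.cen_A hr h hy)
      rw [show (q - 1) / 2 = A by omega, show (q + 1) / 4 = C' by omega] at h'
      rcases Nat.prime_three.dvd_mul.1 h' with h'' | h''
      · rcases Nat.prime_three.dvd_mul.1 h'' with k | k
        · omega
        · exact hA3 k
      · exact hC3 h''
    · exact ⟨(show C' = (q + 1) / 4 by omega) ▸ h, fun z hz => B.cen_C hr h hz⟩
    · exact (B.no_large r hr h x y j hk hy hyx.symm).elim
  -- fixed points of such elements in a 3-group
  have hfix : ∀ r, r.Prime → r ∣ Nat.card H → r ≠ 3 → ∀ y : G, orderOf y = r → ∀ Q : Subgroup G, IsPGroup 3 Q →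
      Nat.card (Q ⊓ centralizer ({y} : Set G) : Subgroup G) = 1 ∨
        Nat.card (Q ⊓ centralizer ({y} : Set G) : Subgroup G) = 3 := by
    intro r hr hrd hr3 y hy Q hQ
    obtain ⟨i, hi⟩ := IsPGroup.iff_card.1 (hQ.to_le (inf_le_left : Q ⊓ centralizer ({y} : Set G) ≤ Q))
    have h : 3 ^ i ∣ 120 * (q + 1) :=
      hi ▸ (card_dvd_of_le inf_le_right).trans ((hprimes r hr hrd hr3).2 y hy)
    rw [hi]
    rcases i with _ | _ | i
    · left; rfl
    · right; rfl
    · exfalso
      have h9 : 3 * 3 ∣ 3 * (40 * (q + 1)) := by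
        rw [show 3 * (40 * (q + 1)) = 120 * (q + 1) by ring]
        exact (pow_dvd_pow 3 (show 2 ≤ i + 1 + 1 by omega)).trans h
      have h3 := Nat.dvd_of_mul_dvd_mul_left three_pos h9
      obtain ⟨u, hu⟩ := B.three_dvd_q
      omega
  -- the normalizer
  set PH : Sylow 3 H := P.subtype hPH with hPHdef
  haveI hPab : IsMulCommutative ↥(P : Subgroup G) := hA P
  have hN : normalizer ((PH : Subgroup H) : Set H) ≤ centralizer ((PH : Subgroup H) : Set H) := by
    set N := normalizer ((PH : Subgroup H) : Set H) with hNdef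
    have hN3 : IsPGroup 3 N := by
      refine IsPGroup.iff_card.2 ⟨(Nat.card N).primeFactorsList.length, ?_⟩
      refine Nat.eq_prime_pow_of_unique_prime_dvd (Nat.card_pos (α := N)).ne' ?_
      intro r hr hrd
      by_contra hr3
      haveI : Fact r.Prime := ⟨hr⟩
      obtain ⟨⟨⟨y, hyH⟩, hyN⟩, hy⟩ := exists_prime_orderOf_dvd_card' (G := N) r hrd
      rw [Subgroup.orderOf_mk, Subgroup.orderOf_mk] at hy
      have hrH : r ∣ Nat.card H := hrd.trans (card_subgroup_dvd_card N)
      have hyP : y ∈ normalizer ((P : Subgroup G) : Set G) := by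
        rw [Subgroup.mem_normalizer_iff]
        intro z
        constructor
        · intro hz
          exact mem_subgroupOf.1 ((mem_normalizer_iff.1 hyN ⟨z, hPH hz⟩).1 (mem_subgroupOf.2 hz))
        · intro hz
          have hzH : z ∈ H := by
            have := mul_mem (mul_mem (inv_mem hyH) (hPH hz)) hyH
            rwa [show y⁻¹ * (y * z * y⁻¹) * y = z by group] at this
          exact mem_subgroupOf.1 ((mem_normalizer_iff.1 hyN ⟨z, hzH⟩).2 (mem_subgroupOf.2 hz))
      have hmod : Nat.card (P : Subgroup G) ≡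
          Nat.card ((P : Subgroup G) ⊓ centralizer ({y} : Set G) : Subgroup G) [MOD r] :=
        card_modEq_fixed hy hyP
      have hC'r : r ∣ C' := (hprimes r hr hrH hr3).1
      rw [hPcard, ← Int.natCast_modEq_iff, Int.modEq_iff_dvd] at hmod
      push_cast at hmod
      have hq1 : (r : ℤ) ∣ (q : ℤ) + 1 := by
        have : r ∣ q + 1 := hC' ▸ hC'r.mul_left 4
        exact_mod_cast Int.natCast_dvd_natCast.2 this
      have h1 := hmod.add (hq1.mul_right ((q : ℤ) ^ 2 - q + 1))
      have hr2 : r ≠ 2 := fun e => Nat.not_even_iff_odd.2 hHodd (even_iff_two_dvd.2 (e ▸ hrH))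
      rcases hfix r hr hrH hr3 y hy (P : Subgroup G) P.2 with e | e
      · rw [e, show ((1 : ℕ) : ℤ) - (q : ℤ) ^ 3 + ((q : ℤ) + 1) * ((q : ℤ) ^ 2 - q + 1) = ((2 : ℕ) : ℤ) by push_cast; ring] at h1
        exact hr2 ((Nat.prime_dvd_prime_iff_eq hr Nat.prime_two).1 (Int.natCast_dvd_natCast.1 h1))
      · rw [e, show ((3 : ℕ) : ℤ) - (q : ℤ) ^ 3 + ((q : ℤ) + 1) * ((q : ℤ) ^ 2 - q + 1) = ((4 : ℕ) : ℤ) by push_cast; ring] at h1
        exact hr2 ((Nat.prime_dvd_prime_iff_eq hr Nat.prime_two).1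
          (hr.dvd_of_dvd_pow (show r ∣ 2 ^ 2 from Int.natCast_dvd_natCast.1 h1)))
    have hNP : N = (PH : Subgroup H) := PH.3 hN3 le_normalizer
    rw [hNP]
    intro a ha
    refine mem_centralizer_iff.2 fun b hb => Subtype.ext ?_
    exact (congrArg Subtype.val (mul_comm' (⟨(b : G), mem_subgroupOf.1 hb⟩ : (P : Subgroup G)) ⟨(a : G), mem_subgroupOf.1 ha⟩) : (b : G) * (a : G) = (a : G) * (b : G))
  -- the normal complement is trivial
  set M := (MonoidHom.transferSylow PH hN).ker with hM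
  have hcompl : IsComplement' M (PH : Subgroup H) := MonoidHom.ker_transferSylow_isComplement' PH hN
  have hM3 : ¬ 3 ∣ Nat.card M := MonoidHom.not_dvd_card_ker_transferSylow PH hN
  have hPHc : Nat.card (PH : Subgroup H) = q ^ 3 :=
    (Nat.card_congr (subgroupOfEquivOfLe hPH).toEquiv).trans (hPcard P)
  have hM1 : M = ⊥ := by
    by_contra hne
    obtain ⟨r, hr, hrd⟩ := Nat.exists_prime_and_dvd (fun h => hne (Subgroup.card_eq_one.1 h))
    haveI : Fact r.Prime := ⟨hr⟩
    have hr3 : r ≠ 3 := fun e => hM3 (e ▸ hrd)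
    have hrH : r ∣ Nat.card H := hrd.trans (card_subgroup_dvd_card M)
    obtain ⟨hrC, -⟩ := hprimes r hr hrH hr3
    obtain ⟨R⟩ := (inferInstance : Nonempty (Sylow r M))
    set R' := (R : Subgroup M).map M.subtype with hR'
    set N := normalizer (R' : Set H) with hNdef
    have hsup : N ⊔ M = ⊤ := Sylow.normalizer_sup_eq_top R
    have h3N : q ^ 3 ∣ Nat.card N := by
      have hd : Nat.card H ∣ Nat.card N * Nat.card M := by
        have h1 : M.index = M.relIndex (N ⊔ M) := by rw [hsup, relIndex_top_right]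
        rw [← M.card_mul_index, h1, relIndex_sup_right, mul_comm]
        exact Nat.mul_dvd_mul_right (relIndex_dvd_card M N) _
      rw [← hcompl.card_mul, hPHc, mul_comm (Nat.card M)] at hd
      exact Nat.dvd_of_mul_dvd_mul_right Nat.card_pos hd
    obtain ⟨Q⟩ := (inferInstance : Nonempty (Sylow 3 N))
    set Q' := ((Q : Subgroup N).map N.subtype).map H.subtype with hQ'
    have hQ'c : q ^ 3 ≤ Nat.card Q' := by
      rw [hQ', card_map_of_injective H.subtype_injective, card_map_of_injective N.subtype_injective]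
      rw [hqm, ← pow_mul] at h3N ⊢
      exact Nat.le_of_dvd Nat.card_pos (Q.pow_dvd_card_of_pow_dvd_card h3N)
    have hQ'3 : IsPGroup 3 Q' := (Q.2.map _).map _
    have hRcard : Nat.card R' = r ^ (Nat.card M).factorization r := by
      rw [hR', card_map_of_injective M.subtype_injective, R.card_eq_multiplicity]
    have hRne : Nontrivial R' := Finite.one_lt_card_iff_nontrivial.1 (by
      rw [hRcard]
      exact Nat.one_lt_pow ((hr.factorization_pos_of_dvd Nat.card_pos.ne' hrd).ne') hr.one_lt)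
    haveI := hRne
    have hrR : r ∣ Nat.card R' := by
      rw [hRcard]
      exact dvd_pow_self r (hr.factorization_pos_of_dvd Nat.card_pos.ne' hrd).ne'
    obtain ⟨⟨⟨y, hyH⟩, hyR⟩, hy⟩ := exists_prime_orderOf_dvd_card' (G := R') r hrR
    rw [Subgroup.orderOf_mk, Subgroup.orderOf_mk] at hy
    have hQn : ∀ a : Q', (⟨(a : G) * y * (a : G)⁻¹, mul_mem (mul_mem (map_subtype_le _ a.2) hyH)
        (inv_mem (map_subtype_le _ a.2))⟩ : H) ∈ R' := by
      rintro ⟨a, b, hb, rfl⟩
      obtain ⟨c, -, rfl⟩ := hb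
      exact (mem_normalizer_iff.1 c.2 _).1 hyR
    have hle : Nat.card Q' ≤ Nat.card (Q' ⊓ centralizer ({y} : Set G) : Subgroup G) * Nat.card R' :=
      card_le_cen_mul (fun a => (⟨_, hQn a⟩ : R')) fun a b h => congrArg (fun z : R' => ((z : H) : G)) h
    have hR'le : Nat.card R' ≤ C' := by
      refine Nat.le_of_dvd (by omega) ?_
      rw [hRcard]
      refine (pow_dvd_pow r ?_).trans (Nat.ordProj_dvd C' r)
      have hrq : r ∣ (q + 1) / 4 := by rwa [show (q + 1) / 4 = C' by omega]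
      calc (Nat.card M).factorization r ≤ (Nat.card G).factorization r :=
            (Nat.factorization_le_iff_dvd Nat.card_pos.ne' Nat.card_pos.ne').2
              ((card_subgroup_dvd_card M).trans (card_subgroup_dvd_card H)) r
        _ = C'.factorization r := by rw [(B.factorization_eq hr).2 hrq, show (q + 1) / 4 = C' by omega]
    have h3' : Nat.card (Q' ⊓ centralizer ({y} : Set G) : Subgroup G) ≤ 3 := by
      rcases hfix r hr hrH hr3 y hy Q' hQ'3 with e | e <;> omega
    have hbig : q ^ 3 ≤ 3 * C' := hQ'c.trans (hle.trans (Nat.mul_le_mul h3' hR'le))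
    have := B.q_ge
    have : q ≤ q ^ 3 := Nat.le_self_pow three_ne_zero q
    omega
  have htop : (PH : Subgroup H) = ⊤ := by
    rw [hM1] at hcompl
    exact isComplement'_bot_left.1 hcompl
  exact mem_subgroupOf.1 (htop ▸ mem_top (⟨g, hgH⟩ : H) : (⟨g, hgH⟩ : H) ∈ (PH : Subgroup H))

/-- Distinct Sylow 3-subgroups meet trivially. -/
theorem ti (hA : ∀ P : Sylow 3 G, IsMulCommutative ↥(P : Subgroup G)) {P Q : Sylow 3 G} {x : G}
    (hxP : x ∈ P) (hxQ : x ∈ Q) (hx1 : x ≠ 1) : P = Q := by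
  have hle : (Q : Subgroup G) ≤ (P : Subgroup G) := fun y hy => by
    haveI := hA Q
    exact B.cen_three hA hxP hx1 ((odd_card_of_three Q.2).of_dvd_nat (Subgroup.orderOf_dvd_natCard _ hy))
      (congrArg Subtype.val (mul_comm' (⟨y, hy⟩ : (Q : Subgroup G)) ⟨x, hxQ⟩))
  exact Sylow.ext (Q.3 P.2 hle)

end Base

end Cfsg.Lib.ReeAb
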