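import Cfsg.Agent.ReeAbelian.Local

/-!
Groups of Ree type with abelian Sylow 3-subgroups: the normalizer of a Sylow 3-subgroup.
-/

set_option autoImplicit false
set_option linter.unusedSectionVars false
set_option linter.style.haveILetI false

namespace Cfsg.Lib.ReeAb

open Subgroup Cfsg.Lib.Dihedral

universe u

variable {G : Type u} [Group G] [Finite G] {t : G} {E : Subgroup G} {q : ℕ}

/-- The structure of the normalizer of the Sylow 3-subgroup `P`. -/
structure NormData (t : G) (q : ℕ) (P : Sylow 3 G) : Prop where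
  card_P : Nat.card (P : Subgroup G) = q ^ 3
  card_fix : Nat.card ((P : Subgroup G) ⊓ centralizer ({t} : Set G) : Subgroup G) = q
  card_norm : Nat.card (normalizer ((P : Subgroup G) : Set G)) = q ^ 3 * (q - 1)
  t_norm : t ∈ normalizer ((P : Subgroup G) : Set G)
  ti : ∀ g : G, g ∉ normalizer ((P : Subgroup G) : Set G) → ∀ x ∈ (P : Subgroup G),
    g * x * g⁻¹ ∈ (P : Subgroup G) → x = 1
  decomp : ∀ n ∈ normalizer ((P : Subgroup G) : Set G), ∃ p ∈ (P : Subgroup G), ∃ h : G,
    Commute h t ∧ n = p * h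
  prime_cases : ∀ y ∈ normalizer ((P : Subgroup G) : Set G), ∀ r : ℕ, r.Prime → orderOf y = r →
    r = 3 ∨ r = 2 ∨ ∀ x ∈ (P : Subgroup G), Commute x y → x = 1

namespace Base

variable (B : Base t E q)
include B

/-- The order of the Sylow 3-subgroups. -/
theorem card_sylow (P : Sylow 3 G) : Nat.card (P : Subgroup G) = q ^ 3 := by
  haveI : Fact (Nat.Prime 3) := ⟨Nat.prime_three⟩
  obtain ⟨A, C, D, hA, hC, hD, hG, hAo, hCo, hDo, hA3, hC3, hD3, -⟩ := B.parts
  obtain ⟨m, hm, hqm⟩ := B.q_eq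
  have hq := B.q_ge
  have hq0 : q ≠ 0 := by omega
  have hA0 : A ≠ 0 := by omega
  have hC0 : C ≠ 0 := by omega
  have hD0 : D ≠ 0 := by omega
  rw [P.card_eq_multiplicity, hqm, ← pow_mul]
  congr 1
  rw [hG, Nat.factorization_mul (by positivity) hD0, Nat.factorization_mul (by positivity) hC0,
    Nat.factorization_mul (by positivity) hA0, Nat.factorization_mul (pow_ne_zero 3 hq0) (by norm_num)]
  simp only [Finsupp.add_apply]
  rw [Nat.factorization_eq_zero_of_not_dvd hA3, Nat.factorization_eq_zero_of_not_dvd hC3,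
    Nat.factorization_eq_zero_of_not_dvd hD3, Nat.factorization_eq_zero_of_not_dvd (show ¬ 3 ∣ 8 by norm_num),
    hqm, ← pow_mul, Nat.Prime.factorization_pow Nat.prime_three, Finsupp.single_eq_same]
  omega

/-- An element of a 3-group has order a positive power of 3 unless it is trivial. -/
theorem order_three {Q : Subgroup G} (hQ : IsPGroup 3 Q) {x : G} (hx : x ∈ Q) (hx1 : x ≠ 1) :
    ∃ k, orderOf x = 3 ^ (k + 1) := by
  haveI : Fact (Nat.Prime 3) := ⟨Nat.prime_three⟩
  obtain ⟨k, hk⟩ := IsPGroup.iff_orderOf.1 hQ ⟨x, hx⟩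
  rw [Subgroup.orderOf_mk] at hk
  rcases k with _ | k
  · exact absurd (orderOf_eq_one_iff.1 (by simpa using hk)) hx1
  · exact ⟨k, hk⟩

/-- An element of prime order dividing `(q - 1) / 2` centralizes no nontrivial 3-element. -/
theorem fix_A {r : ℕ} (hr : r.Prime) (hrd : r ∣ (q - 1) / 2) {y x : G} (hy : orderOf y = r) {k : ℕ}
    (hx : orderOf x = 3 ^ (k + 1)) (hc : Commute x y) : False := by
  obtain ⟨A, C, D, hA, hC, hD, hG, hAo, hCo, hDo, hA3, hC3, hD3, -⟩ := B.parts
  have h := ((hx ▸ dvd_pow_self 3 (Nat.succ_ne_zero k)).trans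
    (Subgroup.orderOf_dvd_natCard _ (mem_centralizer_singleton_iff.2 hc.eq))).trans (B.cen_A hr hrd hy)
  rw [show (q - 1) / 2 = A by omega, show (q + 1) / 4 = C by omega] at h
  rcases Nat.prime_three.dvd_mul.1 h with h | h
  · rcases Nat.prime_three.dvd_mul.1 h with h | h
    · omega
    · exact hA3 h
  · exact hC3 h

/-- An element of prime order dividing `(q + 1) / 4` centralizes at most three elements of a 3-group. -/
theorem fix_C {r : ℕ} (hr : r.Prime) (hrd : r ∣ (q + 1) / 4) {y : G} (hy : orderOf y = r) {Q : Subgroup G}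
    (hQ : IsPGroup 3 Q) :
    Nat.card (Q ⊓ centralizer ({y} : Set G) : Subgroup G) = 1 ∨
      Nat.card (Q ⊓ centralizer ({y} : Set G) : Subgroup G) = 3 := by
  haveI : Fact (Nat.Prime 3) := ⟨Nat.prime_three⟩
  obtain ⟨i, hi⟩ := IsPGroup.iff_card.1 (hQ.to_le (inf_le_left : Q ⊓ centralizer ({y} : Set G) ≤ Q))
  have h : 3 ^ i ∣ 120 * (q + 1) := hi ▸ (card_dvd_of_le inf_le_right).trans (B.cen_C hr hrd hy)
  rw [hi]
  rcases i with _ | _ | i
  · left; rfl
  · right; rfl
  · exfalso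
    have h9 : 3 * 3 ∣ 3 * (40 * (q + 1)) := by
      rw [show 3 * (40 * (q + 1)) = 120 * (q + 1) by ring]
      exact (pow_dvd_pow 3 (show 2 ≤ i + 1 + 1 by omega)).trans h
    have h3 := Nat.dvd_of_mul_dvd_mul_left three_pos h9
    obtain ⟨u, hu⟩ := B.three_dvd_q
    omega

/-- The primes dividing the order of the normalizer of a Sylow 3-subgroup. -/
theorem norm_primes {P : Sylow 3 G} {r : ℕ} (hr : r.Prime) {y : G}
    (hyN : y ∈ normalizer ((P : Subgroup G) : Set G)) (hy : orderOf y = r) :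
    r = 2 ∨ r = 3 ∨ r ∣ (q - 1) / 2 := by
  haveI : Fact r.Prime := ⟨hr⟩
  obtain ⟨A, C, D, hA, hC, hD, hG, hAo, hCo, hDo, hA3, hC3, hD3, -⟩ := B.parts
  have hmod := card_modEq_fixed hy hyN
  rw [B.card_sylow P, ← Int.natCast_modEq_iff, Int.modEq_iff_dvd] at hmod
  push_cast at hmod
  have hqq : q ≤ q ^ 2 := Nat.le_self_pow two_ne_zero q
  rcases B.prime_cases hr (hy ▸ orderOf_dvd_natCard y) with h | h | h | h | h
  · exact Or.inl h
  · exact Or.inr (Or.inl h)
  · exact Or.inr (Or.inr h)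
  · exfalso
    have hr2 : r ≠ 2 := fun e => Nat.not_even_iff_odd.2 hCo (even_iff_two_dvd.2 (by
      rw [show C = (q + 1) / 4 by omega, ← e]; exact h))
    have hq1 : (r : ℤ) ∣ (q : ℤ) + 1 := by
      exact_mod_cast Int.natCast_dvd_natCast.2 (h.trans (Nat.div_dvd_of_dvd (show 4 ∣ q + 1 by omega)))
    have h1 := hmod.add (hq1.mul_right ((q : ℤ) ^ 2 - q + 1))
    rcases B.fix_C hr h hy P.2 with e | e
    · rw [e, show ((1 : ℕ) : ℤ) - (q : ℤ) ^ 3 + ((q : ℤ) + 1) * ((q : ℤ) ^ 2 - q + 1) = ((2 : ℕ) : ℤ) by push_cast; ring] at h1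
      exact hr2 ((Nat.prime_dvd_prime_iff_eq hr Nat.prime_two).1 (Int.natCast_dvd_natCast.1 h1))
    · rw [e, show ((3 : ℕ) : ℤ) - (q : ℤ) ^ 3 + ((q : ℤ) + 1) * ((q : ℤ) ^ 2 - q + 1) = ((4 : ℕ) : ℤ) by push_cast; ring] at h1
      exact hr2 ((Nat.prime_dvd_prime_iff_eq hr Nat.prime_two).1
        (hr.dvd_of_dvd_pow (show r ∣ 2 ^ 2 from Int.natCast_dvd_natCast.1 h1)))
  · exfalso
    have hr2 : r ≠ 2 := fun e => Nat.not_even_iff_odd.2 hDo (even_iff_two_dvd.2 (hD ▸ e ▸ h))
    have hbot : (P : Subgroup G) ⊓ centralizer ({y} : Set G) = ⊥ := by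
      rw [eq_bot_iff]
      intro x hx
      rw [mem_bot]
      by_contra hx1
      obtain ⟨k, hk⟩ := B.order_three P.2 hx.1 hx1
      exact B.no_large r hr h x y k hk hy (mem_centralizer_singleton_iff.1 hx.2)
    rw [hbot, Subgroup.card_bot] at hmod
    have hq1 : (r : ℤ) ∣ (q : ℤ) ^ 2 - q + 1 := by
      have := Int.natCast_dvd_natCast.2 h
      push_cast [hqq] at this
      exact this
    have h1 := hmod.add (hq1.mul_right ((q : ℤ) + 1))
    rw [show ((1 : ℕ) : ℤ) - (q : ℤ) ^ 3 + ((q : ℤ) ^ 2 - q + 1) * ((q : ℤ) + 1) = ((2 : ℕ) : ℤ) by push_cast; ring] at h1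
    exact hr2 ((Nat.prime_dvd_prime_iff_eq hr Nat.prime_two).1 (Int.natCast_dvd_natCast.1 h1))

/-- The normalizer of a Sylow 3-subgroup contains no two commuting involutions. -/
theorem norm_invol_eq {P : Sylow 3 G} {a b : G} (ha : orderOf a = 2) (hb : orderOf b = 2)
    (haN : a ∈ normalizer ((P : Subgroup G) : Set G)) (hbN : b ∈ normalizer ((P : Subgroup G) : Set G))
    (hab : Commute a b) : a = b := by
  haveI : Fact (Nat.Prime 3) := ⟨Nat.prime_three⟩
  by_contra hne
  have haa := Ree.sq_one_of_order ha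
  have hbb := Ree.sq_one_of_order hb
  have hab2 : orderOf (a * b) = 2 := orderOf_eq_prime (by rw [hab.mul_pow, pow_two, pow_two, haa, hbb, one_mul])
    (fun e => hne (by rw [eq_inv_of_mul_eq_one_left e, inv_eq_of_mul_eq_one_right hbb]))
  set L : Subgroup G := (P : Subgroup G) with hL
  have hodd : ∀ x ∈ L, ¬ 2 ∣ orderOf x := fun x hx => by
    rw [← even_iff_two_dvd, Nat.not_even_iff_odd]
    exact (odd_card_of_three P.2).of_dvd_nat (Subgroup.orderOf_dvd_natCard _ hx)
  have hact : ∀ h : G, h * h = 1 → h ∈ normalizer ((P : Subgroup G) : Set G) → InvAct L h := fun h hh hn =>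
    ⟨fun x hx => (mem_normalizer_iff.1 hn x).1 hx, fun x _ => by
      rw [show h * (h * x * h⁻¹) * h⁻¹ = (h * h) * x * (h * h)⁻¹ by group, hh]; group⟩
  have hform := four_group_formula hodd (hact a haa haN) (hact b hbb hbN) (fun x _ => by
    rw [show a * (b * x * b⁻¹) * a⁻¹ = (a * b) * x * (a * b)⁻¹ by group, hab.eq]
    group)
  have hfc : ∀ h x, x ∈ fixed L h → Commute x h := fun h x hx =>
    (mul_inv_eq_iff_eq_mul.1 (mem_fixed.1 hx).2).symm
  have hle : ∀ h, orderOf h = 2 → Nat.card (fixed L h) ≤ q := fun h hh =>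
    B.three_cen_le (P.2.to_le fun x hx => (mem_fixed.1 hx).1) hh (hfc h)
  have hone : fixed (fixed L a) b = ⊥ := by
    rw [eq_bot_iff]
    intro x hx
    rw [mem_bot]
    by_contra hx1
    obtain ⟨hxa, hxb⟩ := mem_fixed.1 hx
    obtain ⟨k, hk⟩ := B.order_three P.2 (mem_fixed.1 hxa).1 hx1
    exact hne (B.invol_eq hk ha hb (hfc a x hxa) (mul_inv_eq_iff_eq_mul.1 hxb).symm hab)
  rw [hone, Subgroup.card_bot, one_pow, mul_one, hL, B.card_sylow P] at hform
  have hqa : Nat.card (fixed L a) = q := by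
    refine le_antisymm (hle a ha) ?_
    have hq := B.q_ge
    have h1 : q ^ 3 ≤ Nat.card (fixed L a) * (q * q) := by
      rw [hform, mul_assoc]
      exact Nat.mul_le_mul_left _ (Nat.mul_le_mul (hle b hb) (hle _ hab2))
    rw [show q ^ 3 = q * (q * q) by ring] at h1
    exact Nat.le_of_mul_le_mul_right h1 (by positivity)
  obtain ⟨g, hg⟩ := B.exists_conj ha
  set c : G →* G := (MulAut.conj g).toMonoidHom with hcdef
  have hct : c a = t := hg
  set Q := (fixed L a).map c with hQ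
  have hQ3 : IsPGroup 3 Q := (P.2.to_le fun x hx => (mem_fixed.1 hx).1).map _
  have hQE : Q ≤ E := B.le_E (odd_card_of_three hQ3) (by
    rintro _ ⟨x, hx, rfl⟩
    exact hct ▸ (hfc a x hx).map c)
  obtain ⟨S, hS⟩ := (hQ3.of_equiv (subgroupOfEquivOfLe hQE).symm).exists_le_sylow
  have hSQ : (S : Subgroup E) = Q.subgroupOf E := (Subgroup.eq_of_le_of_card_ge hS (le_of_eq (by
    rw [B.psl.sylow S, Nat.card_congr (subgroupOfEquivOfLe hQE).toEquiv, hQ,
      card_map_of_injective (MulAut.conj g).injective, hqa]))).symm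
  have hct' : Commute (c b) t := hct ▸ (hab.symm.map c)
  obtain ⟨e, he, r⟩ := B.split (c b) hct'
  have hbQ : ∀ z ∈ Q, c b * z * (c b)⁻¹ ∈ Q := by
    rintro _ ⟨x, hx, rfl⟩
    refine ⟨b * x * b⁻¹, mem_fixed.2 ⟨(mem_normalizer_iff.1 hbN x).1 (mem_fixed.1 hx).1, ?_⟩, by
      rw [map_mul, map_mul, map_inv]⟩
    rw [show a * (b * x * b⁻¹) * a⁻¹ = (a * b) * x * (a * b)⁻¹ by group, hab.eq,
      show b * a * x * (b * a)⁻¹ = b * (a * x * a⁻¹) * b⁻¹ by group, (mem_fixed.1 hx).2]
  have heQ : ∀ z ∈ Q, e * z * e⁻¹ ∈ Q := by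
    intro z hz
    have h := hbQ z hz
    rcases r with r | r <;> rw [r] at h
    · exact h
    · rwa [show t * e * z * (t * e)⁻¹ = t * (e * z * e⁻¹) * t⁻¹ by group,
        (B.comm _ (mul_mem (mul_mem he (hQE hz)) (inv_mem he))).eq, mul_inv_cancel_right] at h
  have heN : (⟨e, he⟩ : E) ∈ normalizer ((S : Subgroup E) : Set E) := by
    rw [hSQ]
    have hfw : ∀ z : E, z ∈ Q.subgroupOf E → (⟨e, he⟩ : E) * z * (⟨e, he⟩ : E)⁻¹ ∈ Q.subgroupOf E := fun z hz =>
      mem_subgroupOf.2 (heQ z (mem_subgroupOf.1 hz))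
    exact mem_normalizer_fintype hfw
  have heo : Odd (orderOf e) := by
    refine Odd.of_dvd_nat ?_ ((Subgroup.orderOf_mk e he).symm ▸ Subgroup.orderOf_dvd_natCard _ heN)
    rw [B.psl.norm S]
    obtain ⟨A, C, D, hA, -, -, -, hAo, -⟩ := B.parts
    refine Nat.odd_mul.2 ⟨Nat.odd_iff.2 (by have := B.q_mod; omega), ?_⟩
    rwa [show (q - 1) / 2 = A by omega]
  have hbo : orderOf (c b) = 2 := ((MulAut.conj g).orderOf_eq b).trans hb
  have hee : e * e = 1 := by
    have h2 := Ree.sq_one_of_order hbo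
    rcases r with r | r
    · rwa [r] at h2
    · rwa [r, (B.comm e he).symm.mul_mul_mul_comm, B.tt, one_mul] at h2
  have he1 := Ree.eq_one_of_odd_sq heo hee
  rcases r with r | r
  · rw [r, he1, orderOf_one] at hbo; omega
  · refine hne ((MulAut.conj g).injective (show c a = c b from ?_))
    rw [hct, r, he1, mul_one]

/-- The Sylow 3-subgroup above a Sylow 3-subgroup of `E`. -/
theorem exists_normData (hA : ∀ P : Sylow 3 G, IsMulCommutative ↥(P : Subgroup G)) :
    ∃ P : Sylow 3 G, NormData t q P := by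
  classical
  haveI : Fact (Nat.Prime 3) := ⟨Nat.prime_three⟩
  haveI : Fact (Nat.Prime 2) := ⟨Nat.prime_two⟩
  obtain ⟨P₀⟩ := (inferInstance : Nonempty (Sylow 3 E))
  set U := (P₀ : Subgroup E).map E.subtype with hU
  have hUc : Nat.card U = q := by rw [hU, card_map_of_injective E.subtype_injective, B.psl.sylow]
  obtain ⟨P, hP⟩ := (P₀.2.map E.subtype).exists_le_sylow
  have hq := B.q_ge
  obtain ⟨u, hu, hu1⟩ := U.bot_or_exists_ne_one.resolve_left fun e => by
    rw [e, Subgroup.card_bot] at hUc; omega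
  -- elements normalising `U` normalise `P`
  have hnorm : ∀ n : G, (∀ x ∈ U, n * x * n⁻¹ ∈ U) → n ∈ normalizer ((P : Subgroup G) : Set G) := by
    intro n hn
    have h : n • P = P := by
      refine B.ti hA (x := n * u * n⁻¹) ?_ (hP (hn u hu)) fun e => hu1 (by rwa [mul_inv_eq_one, mul_eq_left] at e)
      rw [← SetLike.mem_coe, Sylow.coe_smul]
      exact ⟨u, hP hu, rfl⟩
    exact Sylow.smul_eq_iff_mem_normalizer.1 h
  have htU : ∀ x ∈ U, Commute t x := fun x hx => B.comm x (map_subtype_le _ hx)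
  have htN : t ∈ normalizer ((P : Subgroup G) : Set G) := hnorm t fun x hx => by
    rw [(htU x hx).eq, mul_inv_cancel_right]; exact hx
  obtain ⟨T, hTN, -, hTc, -⟩ := B.psl.torus P₀
  set T' := T.map E.subtype with hT'
  have hT'c : Nat.card T' = (q - 1) / 2 := by rw [hT', card_map_of_injective E.subtype_injective, hTc]
  have hT'N : T' ≤ normalizer ((P : Subgroup G) : Set G) := by
    rintro _ ⟨a, ha, rfl⟩
    refine hnorm _ ?_
    rintro _ ⟨x, hx, rfl⟩
    exact ⟨a * x * a⁻¹, (mem_normalizer_iff.1 (hTN ha) x).1 hx, rfl⟩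
  -- the complement
  let H : Subgroup G :=
    { carrier := {h | ∃ e ∈ T', h = e ∨ h = t * e}
      one_mem' := ⟨1, one_mem _, Or.inl rfl⟩
      mul_mem' := by
        rintro _ _ ⟨e, he, r⟩ ⟨e', he', r'⟩
        have hc : Commute t e := B.comm e (map_subtype_le _ he)
        refine ⟨e * e', mul_mem he he', ?_⟩
        rcases r with rfl | rfl <;> rcases r' with rfl | rfl
        · exact Or.inl rfl
        · exact Or.inr (by rw [← mul_assoc, ← hc.eq, mul_assoc])
        · exact Or.inr (mul_assoc _ _ _)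
        · exact Or.inl (by rw [mul_assoc, ← mul_assoc e, ← hc.eq, mul_assoc, ← mul_assoc t, B.tt, one_mul])
      inv_mem' := by
        rintro h ⟨e, he, r | r⟩ <;> rw [r]
        · exact ⟨e⁻¹, inv_mem he, Or.inl rfl⟩
        · exact ⟨e⁻¹, inv_mem he, Or.inr (by
            rw [_root_.mul_inv_rev, inv_eq_of_mul_eq_one_right B.tt,
              ((B.comm e (map_subtype_le _ he)).inv_right).eq])⟩ }
  have hHN : H ≤ normalizer ((P : Subgroup G) : Set G) := by
    rintro h ⟨e, he, r | r⟩ <;> rw [r]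
    · exact hT'N he
    · exact mul_mem htN (hT'N he)
  have hHcomm : ∀ h ∈ H, Commute h t := by
    rintro h ⟨e, he, r | r⟩ <;> rw [r]
    · exact (B.comm e (map_subtype_le _ he)).symm
    · exact (Commute.refl t).mul_left (B.comm e (map_subtype_le _ he)).symm
  have hHc : Nat.card H = q - 1 := by
    have h1 : Nat.card H = Nat.card (Bool × T') := (Nat.card_congr (Equiv.ofBijective
      (fun p : Bool × T' => (⟨bif p.1 then t * (p.2 : G) else (p.2 : G), p.2, p.2.2, by
        cases p.1 <;> simp⟩ : H)) ⟨fun a b h => ?_, ?_⟩)).symm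
    · rw [h1, Nat.card_prod, hT'c]
      obtain ⟨A, C, D, hA', -⟩ := B.parts
      simp
      omega
    · obtain ⟨x, e⟩ := a
      obtain ⟨y, e'⟩ := b
      have h' := congrArg Subtype.val h
      cases x <;> cases y <;> simp only [cond_false, cond_true] at h'
      · rw [Subtype.ext h']
      · exact absurd (map_subtype_le _ (show t ∈ T' by
          rw [show t = (e : G) * (e' : G)⁻¹ by rw [h', mul_inv_cancel_right]]
          exact mul_mem e.2 (inv_mem e'.2))) B.disj
      · exact absurd (map_subtype_le _ (show t ∈ T' by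
          rw [show t = (e' : G) * (e : G)⁻¹ by rw [← h', mul_inv_cancel_right]]
          exact mul_mem e'.2 (inv_mem e.2))) B.disj
      · rw [Subtype.ext (mul_left_cancel h')]
    · rintro ⟨h, e, he, r⟩
      rcases r with r | r
      · exact ⟨(false, ⟨e, he⟩), Subtype.ext r.symm⟩
      · exact ⟨(true, ⟨e, he⟩), Subtype.ext r.symm⟩
  -- the order of the normalizer
  set N := normalizer ((P : Subgroup G) : Set G) with hN
  have hPc := B.card_sylow P
  have h4 : ¬ 4 ∣ Nat.card N := by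
    intro h
    obtain ⟨S⟩ := (inferInstance : Nonempty (Sylow 2 N))
    obtain ⟨R, hR⟩ := (S.2.map N.subtype).exists_le_sylow
    haveI := B.two_comm R
    have h4S : 4 ∣ Nat.card (S : Subgroup N) := S.pow_dvd_card_of_pow_dvd_card (n := 2) h
    haveI : Nontrivial (S : Subgroup N) := Finite.one_lt_card_iff_nontrivial.1 (by
      have := Nat.le_of_dvd Nat.card_pos h4S
      omega)
    obtain ⟨⟨a, ha⟩, ha1⟩ := exists_ne (1 : (S : Subgroup N))
    have hso : ∀ c : (S : Subgroup N), c ≠ 1 → orderOf ((c : N) : G) = 2 := fun c hc => by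
      obtain ⟨i, hi⟩ := IsPGroup.iff_orderOf.1 S.2 c
      exact orderOf_eq_prime (by rw [pow_two]; exact B.two_sq _ ⟨i, by rw [orderOf_coe, orderOf_coe]; exact hi⟩)
        fun e => hc (Subtype.ext (Subtype.ext e))
    have hall : ∀ b : (S : Subgroup N), b ≠ 1 → ((b : N) : G) = (a : G) := fun b hb1 =>
      B.norm_invol_eq (hso b hb1) (hso ⟨a, ha⟩ ha1) (b : N).2 a.2
        (congrArg Subtype.val (mul_comm' (⟨_, hR (mem_map_of_mem N.subtype b.2)⟩ : (R : Subgroup G))
          ⟨_, hR (mem_map_of_mem N.subtype ha)⟩))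
    have : Nat.card (S : Subgroup N) ≤ 2 := by
      refine (Nat.card_le_card_of_injective (fun b : (S : Subgroup N) => (if b = 1 then 0 else 1 : Fin 2))
        fun b c h => ?_).trans (by simp)
      by_cases hb : b = 1 <;> by_cases hc : c = 1
      · rw [hb, hc]
      · simp [hb, hc] at h
      · simp [hb, hc] at h
      · exact Subtype.ext (Subtype.ext ((hall b hb).trans (hall c hc).symm))
    exact absurd (Nat.le_of_dvd Nat.card_pos h4S) (by omega)
  have hNc : Nat.card N = q ^ 3 * (q - 1) := by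
    obtain ⟨A, C, D, hA', hC', hD, hG, hAo, hCo, hDo, hA3, hC3, hD3, hAC, hAD, hCD, -⟩ := B.parts
    refine Nat.dvd_antisymm ?_ ?_
    · have hdG : Nat.card N ∣ q ^ 3 * 8 * A * C * D := hG ▸ card_subgroup_dvd_card N
      have hno : ∀ r, r.Prime → r ∣ Nat.card N → ¬ r ∣ C ∧ ¬ r ∣ D := by
        intro r hr hrd
        haveI : Fact r.Prime := ⟨hr⟩
        obtain ⟨⟨y, hyN⟩, hy⟩ := exists_prime_orderOf_dvd_card' (G := N) r hrd
        rw [Subgroup.orderOf_mk] at hy
        rcases B.norm_primes hr hyN hy with rfl | rfl | h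
        · exact ⟨fun h => Nat.not_even_iff_odd.2 hCo (even_iff_two_dvd.2 h),
            fun h => Nat.not_even_iff_odd.2 hDo (even_iff_two_dvd.2 h)⟩
        · exact ⟨hC3, hD3⟩
        · rw [show (q - 1) / 2 = A by omega] at h
          exact ⟨fun h' => hr.not_dvd_one (hAC.gcd_eq_one ▸ Nat.dvd_gcd h h'),
            fun h' => hr.not_dvd_one (hAD.gcd_eq_one ▸ Nat.dvd_gcd h h')⟩
      have hcop : Nat.Coprime (Nat.card N) (C * D) := Nat.coprime_of_dvd fun r hr h1 h2 => by
        rcases hr.dvd_mul.1 h2 with h | h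
        · exact (hno r hr h1).1 h
        · exact (hno r hr h1).2 h
      rw [mul_assoc _ C D] at hdG
      have h8 : Nat.card N ∣ 8 * (q ^ 3 * A) := by
        rw [show 8 * (q ^ 3 * A) = q ^ 3 * 8 * A by ring]
        exact hcop.dvd_of_dvd_mul_right hdG
      have h2 : Nat.gcd (Nat.card N) 8 ∣ 2 := by
        obtain ⟨i, hi, hgi⟩ := (Nat.dvd_prime_pow Nat.prime_two).1
          (show Nat.gcd (Nat.card N) 8 ∣ 2 ^ 3 from Nat.gcd_dvd_right _ _)
        rw [hgi]
        rcases i with _ | _ | i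
        · exact one_dvd _
        · exact dvd_rfl
        · exact absurd (((show 4 ∣ 2 ^ (i + 1 + 1) from ⟨2 ^ i, by ring⟩)).trans (hgi ▸ Nat.gcd_dvd_left _ _)) h4
      refine ((Nat.dvd_gcd dvd_rfl h8).trans (Nat.gcd_mul_right_dvd_mul_gcd _ _ _)).trans ?_
      rw [hA', show q ^ 3 * (2 * A) = 2 * (q ^ 3 * A) by ring]
      exact mul_dvd_mul h2 (Nat.gcd_dvd_right _ _)
    · refine Nat.Coprime.mul_dvd_of_dvd_of_dvd ?_ (hPc ▸ card_dvd_of_le le_normalizer) (hHc ▸ card_dvd_of_le hHN)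
      exact Nat.Coprime.pow_left 3 ((Nat.coprime_self_sub_right (by omega)).2 (Nat.coprime_one_right q))
  refine ⟨P, hPc, ?_, hNc, htN, fun g hg x hx hgx => ?_, fun n hn => ?_, fun y hy r hr hyo => ?_⟩
  · refine le_antisymm (B.three_cen_le (P.2.to_le inf_le_left) B.ord fun x hx => mem_centralizer_singleton_iff.1 hx.2) ?_
    rw [← hUc]
    exact card_le_of_le (le_inf hP fun x hx => mem_centralizer_singleton_iff.2 (htU x hx).symm.eq)
  · by_contra hx1
    refine hg (Sylow.smul_eq_iff_mem_normalizer.1 (B.ti hA (x := g * x * g⁻¹) ?_ hgx fun e => hx1 (by rwa [mul_inv_eq_one, mul_eq_left] at e)))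
    rw [← SetLike.mem_coe, Sylow.coe_smul]
    exact ⟨x, hx, rfl⟩
  · let f : ↥(P : Subgroup G) × ↥H → N := fun p => ⟨(p.1 : G) * (p.2 : G), mul_mem (le_normalizer p.1.2) (hHN p.2.2)⟩
    have hf : Function.Bijective f := by
      rw [Nat.bijective_iff_injective_and_card]
      refine ⟨fun a b h => ?_, by rw [Nat.card_prod, hPc, hHc, hNc]⟩
      have h' : (a.1 : G) * a.2 = b.1 * b.2 := congrArg Subtype.val h
      have e : (b.1 : G)⁻¹ * a.1 = b.2 * (a.2 : G)⁻¹ := by
        rw [eq_mul_inv_iff_mul_eq, mul_assoc, h', inv_mul_cancel_left]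
      have h1 : (b.1 : G)⁻¹ * a.1 = 1 := by
        rw [← orderOf_eq_one_iff]
        refine Nat.eq_one_of_dvd_coprimes (Nat.Coprime.pow_left 3
          ((Nat.coprime_self_sub_right (show 1 ≤ q by omega)).2 (Nat.coprime_one_right q))) ?_ ?_
        · exact hPc ▸ Subgroup.orderOf_dvd_natCard _ (mul_mem (inv_mem b.1.2) a.1.2)
        · rw [e]; exact hHc ▸ Subgroup.orderOf_dvd_natCard _ (mul_mem b.2.2 (inv_mem a.2.2))
      refine Prod.ext (Subtype.ext (inv_mul_eq_one.1 h1).symm) (Subtype.ext ?_)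
      rw [e, mul_inv_eq_one] at h1
      exact h1.symm
    obtain ⟨⟨p, h⟩, hp⟩ := hf.2 ⟨n, hn⟩
    exact ⟨p, p.2, h, hHcomm h h.2, (congrArg Subtype.val hp).symm⟩
  · rcases B.norm_primes hr hy hyo with h | h | h
    · exact Or.inr (Or.inl h)
    · exact Or.inl h
    · refine Or.inr (Or.inr fun x hx hxy => ?_)
      by_contra hx1
      obtain ⟨k, hk⟩ := B.order_three P.2 hx hx1
      exact B.fix_A hr h hyo hk hxy

end Base

end Cfsg.Lib.ReeAb
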