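import Cfsg.Agent.Ree.PSL.Group

/-!
`PSL(2, q)` for `q = 3^(2m+1)`: the Sylow 3-subgroups, their normalisers, the split torus, inverted subgroups.
-/

set_option autoImplicit false
set_option linter.unusedSectionVars false
set_option linter.style.haveILetI false

namespace Cfsg.Lib.ReeAb

open Matrix Subgroup Cfsg.Lib.GLTwo
open scoped MatrixGroups

universe u v

/-- The facts used about `PSL(2, q)`. -/
structure PSLThree (X : Type u) [Group X] [Finite X] (q : ℕ) : Prop where
  card : 2 * Nat.card X = q * (q ^ 2 - 1)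
  sylow : ∀ P : Sylow 3 X, Nat.card (P : Subgroup X) = q
  cube : ∀ P : Sylow 3 X, ∀ u ∈ P, u ^ 3 = 1
  cen : ∀ P : Sylow 3 X, ∀ u ∈ P, u ≠ 1 → centralizer ({u} : Set X) = (P : Subgroup X)
  comm : ∀ P : Sylow 3 X, ∀ a ∈ P, ∀ b ∈ P, Commute a b
  norm : ∀ P : Sylow 3 X, Nat.card (normalizer ((P : Subgroup X) : Set X)) = q * ((q - 1) / 2)
  not_real : ∀ u : X, u ^ 3 = 1 → u ≠ 1 → ∀ g : X, g * u * g⁻¹ ≠ u⁻¹
  torus : ∀ P : Sylow 3 X, ∃ T : Subgroup X, T ≤ normalizer ((P : Subgroup X) : Set X) ∧ IsCyclic T ∧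
    Nat.card T = (q - 1) / 2 ∧ (∀ a ∈ T, a ≠ 1 → centralizer ({a} : Set X) = T) ∧
    ∃ w : X, orderOf w = 2 ∧ ∀ a ∈ T, w * a * w⁻¹ = a⁻¹
  cen_invol : ∀ z : X, orderOf z = 2 → Nat.card (centralizer ({z} : Set X)) = q + 1
  inverted : ∀ H : Subgroup X, Odd (Nat.card H) → ∀ g : X, (∀ h ∈ H, g * h * g⁻¹ = h⁻¹) →
    Nat.card H ∣ (q - 1) / 2 ∨ Nat.card H ∣ (q + 1) / 4

section Model

variable {F : Type v} [Field F] [Fintype F]

local notation "P₂" => Matrix.ProjectiveSpecialLinearGroup (Fin 2) F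

/-- The centralisers of the nontrivial elements. -/
theorem cen_cases [CharP F 3] (h4 : Fintype.card F % 4 = 3) {x : P₂} (hx : x ≠ 1) :
    (x ^ 3 = 1 ∧ Nat.card (centralizer ({x} : Set P₂)) = Fintype.card F) ∨
      Nat.card (centralizer ({x} : Set P₂)) ∣ Fintype.card F - 1 ∨
      Nat.card (centralizer ({x} : Set P₂)) ∣ Fintype.card F + 1 := by
  haveI : Fact (Nat.Prime 3) := ⟨Nat.prime_three⟩
  have hodd : Odd (Fintype.card F) := Nat.odd_iff.2 (by omega)
  have h2 := two_ne_zero_of_odd hodd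
  obtain ⟨s, rfl⟩ := QuotientGroup.mk'_surjective (Subgroup.center SL(2, F)) x
  have hs : NonScalar (s : Matrix (Fin 2) (Fin 2) F) :=
    nonScalar_of_ne (fun e => hx ((prj_eq_one_iff _).2 (Or.inl e))) (fun e => hx ((prj_eq_one_iff _).2 (Or.inr e)))
  set C := centralizer ({prj s} : Set P₂) with hC
  show (prj s ^ 3 = 1 ∧ Nat.card C = _) ∨ Nat.card C ∣ _ ∨ Nat.card C ∣ _
  have hX2 : Nat.card (C.comap prj) = 2 * Nat.card C := by
    have h := (C.comap prj).card_mul_index
    rw [Subgroup.index_comap_of_surjective _ (QuotientGroup.mk'_surjective _),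
      Cfsg.Lib.Classical.SLTwoTori.card_SL2, ← Cfsg.Lib.PSLTwoDihedral.card_P (F := F) (Nat.odd_iff.1 hodd),
      ← C.card_mul_index, ← mul_assoc] at h
    exact Nat.eq_of_mul_eq_mul_right (Nat.pos_of_ne_zero C.index_ne_zero_of_finite) h
  have hgcd : Nat.gcd 2 (Fintype.card F - 1) = 2 := by
    obtain ⟨k, hk⟩ := hodd
    exact Nat.gcd_eq_left ⟨k, by omega⟩
  by_cases ht : (s : Matrix (Fin 2) (Fin 2) F).trace = 0
  · have hc := card_comap_cent_of_trace_eq h2 hs ht
    rw [hX2] at hc
    have hc' := Nat.eq_of_mul_eq_mul_left two_pos hc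
    rcases kinds hs with ⟨-, e⟩ | ⟨-, e⟩ | ⟨⟨r, hr, he⟩, -⟩
    · exact Or.inr (Or.inr (by rw [hc', e]))
    · exact Or.inr (Or.inl (by rw [hc', e]))
    · rw [ht] at he
      exact absurd ((mul_eq_zero.1 (show (2 : F) * r = 0 by linear_combination -he)).resolve_left h2)
        (left_ne_zero_of_mul_eq_one hr)
  · have hc := card_comap_cent_of_trace_ne (s := s) (Or.inl ht)
    rw [hX2] at hc
    rcases kinds hs with ⟨-, e⟩ | ⟨-, e⟩ | ⟨⟨r, hr, he⟩, e⟩ <;> rw [e] at hc
    · exact Or.inr (Or.inr ⟨2, by rw [← hc, mul_comm]⟩)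
    · exact Or.inr (Or.inl ⟨2, by rw [← hc, mul_comm]⟩)
    · rw [hgcd] at hc
      refine Or.inl ⟨?_, Nat.eq_of_mul_eq_mul_left two_pos hc⟩
      rw [← map_pow, prj_eq_one_iff]
      have h := pow_char_of_trace 3 hr he
      rw [show r ^ 3 = r by rw [pow_succ, pow_two, hr, one_mul]] at h
      rcases mul_self_eq_one_iff.1 hr with rfl | rfl
      · exact Or.inl (Subtype.ext (by rw [h, one_smul]; rfl))
      · exact Or.inr (Subtype.ext (by rw [h]; simp))

/-- The upper unitriangular elements. -/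
def unip : Multiplicative F →* P₂ :=
  prj.comp
    { toFun := fun x => upper ⟨1, one_mul 1⟩ (Multiplicative.toAdd x)
      map_one' := Subtype.ext (by ext i j; fin_cases i <;> fin_cases j <;> simp)
      map_mul' := fun x y => Subtype.ext (by
        simp only [Matrix.SpecialLinearGroup.coe_mul, coe_upper]
        ext i j; fin_cases i <;> fin_cases j <;> simp [Matrix.mul_apply, Fin.sum_univ_two, add_comm]) }

theorem unip_injective : Function.Injective (unip (F := F)) := by
  rw [injective_iff_map_eq_one]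
  intro x hx
  rcases (prj_eq_one_iff _).1 hx with e | e <;>
  · have h := congrArg (fun z : SL(2, F) => (z : Matrix (Fin 2) (Fin 2) F) 0 1) e
    simp at h
    exact h

/-- The Weyl element. -/
def weyl : SL(2, F) := ⟨!![0, 1; -1, 0], by simp [Matrix.det_fin_two]⟩

theorem weyl_sq : (weyl : SL(2, F)) * weyl = -1 :=
  Subtype.ext (by
    change !![(0 : F), 1; -1, 0] * !![(0 : F), 1; -1, 0] = -1
    ext i j; fin_cases i <;> fin_cases j <;> simp [Matrix.mul_apply, Fin.sum_univ_two])

theorem weyl_torus (a : Fˣ) : (weyl : SL(2, F)) * torus a = torus a⁻¹ * weyl := by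
  refine Subtype.ext ?_
  change !![(0 : F), 1; -1, 0] * !![(a : F), 0; 0, ((a⁻¹ : Fˣ) : F)] =
    !![((a⁻¹ : Fˣ) : F), 0; 0, ((a⁻¹⁻¹ : Fˣ) : F)] * !![(0 : F), 1; -1, 0]
  ext i j; fin_cases i <;> fin_cases j <;> simp [Matrix.mul_apply, Fin.sum_univ_two]

theorem torus_unip (a : Fˣ) (x : F) :
    torus a * upper ⟨1, one_mul 1⟩ x = upper ⟨1, one_mul 1⟩ ((a : F) * a * x) * torus a := by
  refine Subtype.ext ?_
  change !![(a : F), 0; 0, ((a⁻¹ : Fˣ) : F)] * !![(1 : F), x; 0, 1] =
    !![(1 : F), (a : F) * a * x; 0, 1] * !![(a : F), 0; 0, ((a⁻¹ : Fˣ) : F)]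
  have ha : (a : F) ≠ 0 := a.ne_zero
  ext i j; fin_cases i <;> fin_cases j <;> simp [Matrix.mul_apply, Fin.sum_univ_two] <;> field_simp

theorem model_facts {m : ℕ} (hm : 1 ≤ m) (hF : Fintype.card F = 3 ^ (2 * m + 1)) :
    PSLThree P₂ (Fintype.card F) := by
  classical
  haveI : Fact (Nat.Prime 3) := ⟨Nat.prime_three⟩
  haveI : CharP F 3 := by
    obtain ⟨p, hp⟩ := CharP.exists F
    obtain ⟨k, hk, e⟩ := FiniteField.card F p
    rw [hF] at e
    have : p = 3 := (Nat.prime_dvd_prime_iff_eq hk Nat.prime_three).1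
      (hk.dvd_of_dvd_pow (e ▸ dvd_pow_self p k.pos.ne'))
    exact this ▸ hp
  obtain ⟨n, hn⟩ : ∃ n, Fintype.card F = 27 * n := ⟨3 ^ (2 * m + 1 - 3), by
    rw [hF, show 27 = 3 ^ 3 by rfl, ← pow_add]; congr 1; omega⟩
  have h4 : Fintype.card F % 4 = 3 := by
    rw [hF, pow_succ, pow_mul, Nat.mul_mod, Nat.pow_mod]
    norm_num
  generalize hq : Fintype.card F = q at *
  have hq27 : 27 ≤ q := by
    have := Fintype.card_pos (α := F)
    omega
  have hodd : Odd (Fintype.card F) := Nat.odd_iff.2 (by omega)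
  have hcard : 2 * Nat.card P₂ = q * (q ^ 2 - 1) := hq ▸ Cfsg.Lib.PSLTwoDihedral.card_P (Nat.odd_iff.1 hodd)
  have h3sq : ¬ 3 ∣ q ^ 2 - 1 := by
    intro h
    have h1 : 1 ≤ q ^ 2 := Nat.one_le_pow _ _ (by omega)
    have h2 : q ^ 2 = 3 * (243 * n * n) := by rw [hn]; ring
    omega
  have hsyl : ∀ P : Sylow 3 P₂, Nat.card (P : Subgroup P₂) = q := by
    intro P
    rw [P.card_eq_multiplicity, hF]
    congr 1
    have h := congrArg (fun z => Nat.factorization z 3) hcard
    beta_reduce at h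
    rw [Nat.factorization_mul two_ne_zero Nat.card_pos.ne', Nat.factorization_mul (by omega : q ≠ 0)
      (fun e => h3sq (by rw [e]; exact dvd_zero 3)), Finsupp.add_apply, Finsupp.add_apply,
      Nat.factorization_eq_zero_of_not_dvd h3sq,
      Nat.factorization_eq_zero_of_not_dvd (by norm_num : ¬ 3 ∣ 2), hF,
      Nat.Prime.factorization_pow Nat.prime_three, Finsupp.single_eq_same] at h
    simpa using h
  have hcc : ∀ x : P₂, x ≠ 1 → _ := fun x hx => cen_cases (F := F) (hq.symm ▸ h4) hx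
  simp only [hq] at hcc
  -- an element with cube one
  have hthree : ∀ x : P₂, x ≠ 1 → 3 ∣ Nat.card (centralizer ({x} : Set P₂)) →
      x ^ 3 = 1 ∧ Nat.card (centralizer ({x} : Set P₂)) = q := by
    intro x hx h3
    rcases hcc x hx with h | h | h
    · exact h
    · exfalso
      have := h3.trans h
      omega
    · exfalso
      have := h3.trans h
      omega
  -- the centraliser of a nontrivial element of a Sylow 3-subgroup
  have hzero : ∀ (P : Sylow 3 P₂) (u : P₂), u ∈ P → u ≠ 1 → u ^ 3 = 1 ∧ Nat.card (centralizer ({u} : Set P₂)) = q := by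
    intro P u hu hu1
    refine hthree u hu1 ?_
    obtain ⟨k, hk⟩ := (IsPGroup.iff_orderOf.1 P.2) ⟨u, hu⟩
    rw [Subgroup.orderOf_mk] at hk
    have hk0 : k ≠ 0 := fun e => hu1 (orderOf_eq_one_iff.1 (by rw [hk, e, pow_zero]))
    exact (hk ▸ dvd_pow_self 3 hk0).trans (Subgroup.orderOf_dvd_natCard _ (mem_centralizer_singleton_iff.2 rfl))
  obtain ⟨U, hU⟩ : ∃ U : Sylow 3 P₂, (U : Subgroup P₂) = (unip (F := F)).range := by
    have hc : Nat.card (unip (F := F)).range = q := by
      rw [← Nat.card_congr (MonoidHom.ofInjective unip_injective).toEquiv,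
        Nat.card_congr (Multiplicative.toAdd (α := F)), Nat.card_eq_fintype_card, hq]
    obtain ⟨U, hU⟩ := (IsPGroup.of_card (p := 3) (n := 2 * m + 1) (G := (unip (F := F)).range)
      (by rw [hc, hF])).exists_le_sylow
    exact ⟨U, (Subgroup.eq_of_le_of_card_ge hU (by rw [hsyl, hc])).symm⟩
  have hmove : ∀ P : Sylow 3 P₂, ∃ g : P₂, (P : Subgroup P₂) = (U : Subgroup P₂).map (MulAut.conj g).toMonoidHom := by
    intro P
    obtain ⟨g, hg⟩ := MulAction.exists_smul_eq P₂ U P
    exact ⟨g, by rw [← hg]; rfl⟩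
  have hcomm : ∀ P : Sylow 3 P₂, ∀ a ∈ P, ∀ b ∈ P, Commute a b := by
    intro P a ha b hb
    obtain ⟨g, hg⟩ := hmove P
    obtain ⟨a', ha', rfl⟩ := hg.le ha
    obtain ⟨b', hb', rfl⟩ := hg.le hb
    obtain ⟨x, rfl⟩ := hU.le ha'
    obtain ⟨y, rfl⟩ := hU.le hb'
    exact ((Commute.all x y).map unip).map _
  have hcen : ∀ P : Sylow 3 P₂, ∀ u ∈ P, u ≠ 1 → centralizer ({u} : Set P₂) = (P : Subgroup P₂) := fun P u hu hu1 =>
    (Subgroup.eq_of_le_of_card_ge (fun a ha => mem_centralizer_singleton_iff.2 (hcomm P a ha u hu).eq)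
      (by rw [(hzero P u hu hu1).2, hsyl])).symm
  -- the split torus
  obtain ⟨ζ, hζ⟩ := IsCyclic.exists_generator (α := Fˣ)
  set a : P₂ := prj (torus ζ) with ha
  have hao : orderOf a = (q - 1) / 2 := by
    have hgcd : Nat.gcd 2 (Fintype.card F - 1) = 2 := Nat.gcd_eq_left (by rw [hq]; omega)
    rw [ha, orderOf_prj, hgcd, orderOf_pow' _ two_ne_zero, orderOf_injective _ torus_injective,
      orderOf_eq_card_of_forall_mem_zpowers hζ, Nat.card_units, Nat.card_eq_fintype_card, hq,
      Nat.gcd_eq_right (show 2 ∣ q - 1 by omega)]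
  have haodd : Odd ((q - 1) / 2) := Nat.odd_iff.2 (by omega)
  have haU : a ∈ normalizer ((U : Subgroup P₂) : Set P₂) := by
    rw [Subgroup.mem_normalizer_iff]
    have hfw : ∀ (b : Fˣ) (x : P₂), x ∈ (U : Subgroup P₂) → prj (torus b) * x * (prj (torus b))⁻¹ ∈ (U : Subgroup P₂) := by
      intro b x hx
      obtain ⟨y, rfl⟩ := hU.le hx
      refine hU.ge ⟨Multiplicative.ofAdd ((b : F) * b * Multiplicative.toAdd y), ?_⟩
      rw [eq_mul_inv_iff_mul_eq]
      show prj (upper ⟨1, one_mul 1⟩ _) * prj (torus b) = prj (torus b) * prj (upper ⟨1, one_mul 1⟩ _)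
      rw [← map_mul, ← map_mul, torus_unip]
      rfl
    refine fun x => ⟨hfw ζ x, fun hx => ?_⟩
    have h := hfw ζ⁻¹ _ hx
    rwa [map_inv, map_inv, inv_inv, ← ha, show a⁻¹ * (a * x * a⁻¹) * a = x by group] at h
  -- the normaliser
  have hnorm : ∀ P : Sylow 3 P₂, Nat.card (normalizer ((P : Subgroup P₂) : Set P₂)) = q * ((q - 1) / 2) := by
    intro P
    obtain ⟨g, hg⟩ := MulAction.exists_smul_eq P₂ U P
    have hidx : (normalizer ((P : Subgroup P₂) : Set P₂)).index = (normalizer ((U : Subgroup P₂) : Set P₂)).index := by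
      exact (Sylow.card_eq_index_normalizer P).symm.trans (Sylow.card_eq_index_normalizer U)
    set N := normalizer ((U : Subgroup P₂) : Set P₂) with hN
    have hNN : Nat.card (normalizer ((P : Subgroup P₂) : Set P₂)) = Nat.card N := by
      have h1 := (normalizer ((P : Subgroup P₂) : Set P₂)).card_mul_index
      rw [hidx, ← N.card_mul_index] at h1
      exact Nat.eq_of_mul_eq_mul_right (Nat.pos_of_ne_zero N.index_ne_zero_of_finite) h1
    rw [hNN]
    obtain ⟨d, hd⟩ : q ∣ Nat.card N := hsyl U ▸ card_dvd_of_le le_normalizer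
    -- the action on a nontrivial element is regular modulo the centraliser
    obtain ⟨u, hu, hu1⟩ := (U : Subgroup P₂).bot_or_exists_ne_one.resolve_left fun e => by
      have := hsyl U
      rw [e, Subgroup.card_bot] at this
      omega
    have hsn : d ∣ q - 1 := by
      letI act : MulAction N {x : P₂ // x ∈ (U : Subgroup P₂) ∧ x ≠ 1} :=
        { smul := fun n x => ⟨(n : P₂) * x.1 * (n : P₂)⁻¹, (mem_normalizer_iff.1 n.2 _).1 x.2.1, fun e =>
            x.2.2 (mul_eq_left.1 (mul_inv_eq_one.1 e))⟩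
          one_smul := fun x => Subtype.ext (by show (1 : P₂) * x.1 * (1 : P₂)⁻¹ = x.1; group)
          mul_smul := fun a b x => Subtype.ext (by
            show (a : P₂) * b * x.1 * ((a : P₂) * b)⁻¹ = (a : P₂) * ((b : P₂) * x.1 * (b : P₂)⁻¹) * (a : P₂)⁻¹
            group) }
      have hst : ∀ x : {x : P₂ // x ∈ (U : Subgroup P₂) ∧ x ≠ 1},
          MulAction.stabilizer N x = (U : Subgroup P₂).subgroupOf N := by
        intro x
        ext n
        rw [MulAction.mem_stabilizer_iff, mem_subgroupOf, Subtype.ext_iff]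
        have h := SetLike.ext_iff.1 (hcen U x.1 x.2.1 x.2.2) (n : P₂)
        rw [mem_centralizer_singleton_iff] at h
        exact mul_inv_eq_iff_eq_mul.trans h
      have hS : Nat.card {x : P₂ // x ∈ (U : Subgroup P₂) ∧ x ≠ 1} = q - 1 := by
        have hc : Nat.card {x : P₂ // x ∈ (U : Subgroup P₂) ∧ x ≠ 1} = (((U : Subgroup P₂) : Set P₂) \ {1}).ncard :=
          Nat.card_coe_set_eq _
        rw [hc, Set.ncard_diff_singleton_of_mem (one_mem _), ← Nat.card_coe_set_eq]
        exact congrArg (· - 1) (hsyl U)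
      rw [← hS, Nat.card_congr (MulAction.selfEquivSigmaOrbitsQuotientStabilizer N _), Nat.card_sigma]
      refine Finset.dvd_sum fun ω _ => dvd_of_eq ?_
      rw [hst]
      change d = ((U : Subgroup P₂).subgroupOf N).index
      have h1 := ((U : Subgroup P₂).subgroupOf N).card_mul_index
      rw [Nat.card_congr (subgroupOfEquivOfLe le_normalizer).toEquiv, hsyl, hd] at h1
      exact (Nat.eq_of_mul_eq_mul_left (by omega) h1).symm
    have hdt : (q - 1) / 2 ∣ d := by
      have h1 : (q - 1) / 2 ∣ Nat.card N := hao ▸ N.orderOf_dvd_natCard haU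
      rw [hd] at h1
      refine Nat.Coprime.dvd_of_dvd_mul_left ?_ h1
      refine Nat.Coprime.coprime_dvd_left (Nat.div_dvd_of_dvd (by omega)) ?_
      exact (Nat.coprime_self_sub_left (by omega)).2 (Nat.coprime_one_left q)
    have hidx3 := card_sylow_modEq_one 3 P₂
    rw [Sylow.card_eq_index_normalizer U] at hidx3
    change N.index % 3 = 1 % 3 at hidx3
    obtain ⟨c, rfl⟩ := hdt
    have hc : c = 1 ∨ c = 2 := by
      have h2 : (q - 1) / 2 * c ∣ (q - 1) / 2 * 2 := by rwa [Nat.div_mul_cancel (by omega)]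
      exact (Nat.dvd_prime Nat.prime_two).1 (Nat.dvd_of_mul_dvd_mul_left (by omega) h2)
    rcases hc with rfl | rfl
    · rw [hd, mul_one]
    · exfalso
      rw [Nat.div_mul_cancel (by omega)] at hd
      have h1 := N.card_mul_index
      have h2 : q * (q ^ 2 - 1) = q * ((q - 1) * (q + 1)) := by
        congr 1
        zify [Nat.one_le_pow 2 q (by omega), (by omega : 1 ≤ q)]
        ring
      have h3 : q * (q - 1) * (2 * N.index) = q * (q - 1) * (q + 1) := by
        calc q * (q - 1) * (2 * N.index) = 2 * (Nat.card N * N.index) := by rw [hd]; ring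
          _ = q * (q ^ 2 - 1) := by rw [h1, hcard]
          _ = q * (q - 1) * (q + 1) := by rw [h2, mul_assoc]
      have h4' := Nat.eq_of_mul_eq_mul_left (Nat.mul_pos (by omega) (by omega)) h3
      omega
  -- nonreal
  have hnr : ∀ u : P₂, u ^ 3 = 1 → u ≠ 1 → ∀ g : P₂, g * u * g⁻¹ ≠ u⁻¹ := by
    intro u hu3 hu1 g hg
    have hu3o : orderOf u = 3 := orderOf_eq_prime hu3 hu1
    obtain ⟨P, hP⟩ := (IsPGroup.of_card (p := 3) (n := 1) (G := zpowers u)
      (by rw [Nat.card_zpowers, hu3o, pow_one])).exists_le_sylow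
    have huP : u ∈ P := hP (mem_zpowers u)
    have hgN : g ∈ normalizer ((P : Subgroup P₂) : Set P₂) := by
      rw [← hcen P u huP hu1, Subgroup.mem_normalizer_iff]
      intro x
      rw [mem_centralizer_singleton_iff, mem_centralizer_singleton_iff]
      refine ⟨fun h => ?_, fun h => ?_⟩
      · have h' : Commute (g * x * g⁻¹) (g * u * g⁻¹) := (show Commute x u from h).map (MulAut.conj g).toMonoidHom
        rw [hg] at h'
        exact (inv_inv u ▸ h'.inv_right : Commute (g * x * g⁻¹) u).eq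
      · have h' : Commute (g * x * g⁻¹) (g * u * g⁻¹) := hg ▸ (show Commute (g * x * g⁻¹) u from h).inv_right
        have h'' := h'.map (MulAut.conj g⁻¹).toMonoidHom
        simp only [MulEquiv.coe_toMonoidHom, MulAut.conj_apply, inv_inv] at h''
        rwa [show g⁻¹ * (g * x * g⁻¹) * g = x by group, show g⁻¹ * (g * u * g⁻¹) * g = u by group] at h''
    have hgo : Odd (orderOf g) := by
      refine Odd.of_dvd_nat ?_ (Subgroup.orderOf_dvd_natCard _ hgN)
      rw [hnorm]
      exact Nat.odd_mul.2 ⟨hq ▸ hodd, haodd⟩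
    obtain ⟨k, hk⟩ := hgo
    have hg2 : Commute (g * g) u := mul_inv_eq_iff_eq_mul.1 (by
      rw [show g * g * u * (g * g)⁻¹ = g * (g * u * g⁻¹) * g⁻¹ by group, hg, ← conj_inv, hg, inv_inv])
    have hgu : Commute g u := by
      have e : g = (g * g) ^ (k + 1) := by
        rw [← pow_two, ← pow_mul, show 2 * (k + 1) = orderOf g + 1 by omega, pow_succ, pow_orderOf_eq_one, one_mul]
      exact e ▸ hg2.pow_left _
    rw [hgu.eq, mul_inv_cancel_right] at hg
    have h2 : orderOf u ∣ 2 := orderOf_dvd_of_pow_eq_one (by rw [pow_two]; nth_rw 2 [hg]; exact mul_inv_cancel u)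
    rw [hu3o] at h2
    norm_num at h2
  refine ⟨hcard, hsyl, fun P u hu => ?_, hcen, hcomm, hnorm, hnr, ?_, fun z hz => ?_, ?_⟩
  · by_cases hu1 : u = 1
    · rw [hu1, one_pow]
    · exact (hzero P u hu hu1).1
  · -- the torus
    intro P
    obtain ⟨g, hg⟩ := MulAction.exists_smul_eq P₂ U P
    set b := MulAut.conj g with hb
    have hbo : orderOf (b a) = (q - 1) / 2 := by rw [MulEquiv.orderOf_eq, hao]
    refine ⟨zpowers (b a), zpowers_le.2 ?_, inferInstance, by rw [Nat.card_zpowers, hbo], ?_,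
      b (prj weyl), ?_, ?_⟩
    · have h := (Subgroup.map_equiv_normalizer_eq (U : Subgroup P₂) b).le (mem_map_of_mem b.toMonoidHom haU)
      rw [← hg, Sylow.coe_subgroup_smul]
      exact h
    · intro x hx hx1
      have hxd : orderOf x ∣ (q - 1) / 2 := hbo ▸ orderOf_dvd_of_mem_zpowers hx
      have hle : zpowers (b a) ≤ centralizer ({x} : Set P₂) := fun y hy => by
        obtain ⟨i, rfl⟩ := mem_zpowers_iff.1 hy
        obtain ⟨j, rfl⟩ := mem_zpowers_iff.1 hx
        exact mem_centralizer_singleton_iff.2 ((Commute.refl (b a)).zpow_zpow i j).eq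
      have hd : (q - 1) / 2 ∣ Nat.card (centralizer ({x} : Set P₂)) := by
        rw [← hbo, ← Nat.card_zpowers]; exact card_dvd_of_le hle
      have hodd' : Odd (orderOf x) := haodd.of_dvd_nat hxd
      refine (Subgroup.eq_of_le_of_card_ge hle ?_).symm
      rw [Nat.card_zpowers, hbo]
      rcases hcc x hx1 with ⟨h3, -⟩ | h | h
      · exfalso
        have := orderOf_eq_prime h3 hx1
        rw [this] at hxd
        omega
      · obtain ⟨c, hc⟩ := hd
        rw [hc] at h ⊢
        have h2 : (q - 1) / 2 * c ∣ (q - 1) / 2 * 2 := by rwa [Nat.div_mul_cancel (by omega)]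
        rcases (Nat.dvd_prime Nat.prime_two).1 (Nat.dvd_of_mul_dvd_mul_left (by omega) h2) with rfl | rfl
        · rw [mul_one]
        · exfalso
          haveI : Fact (Nat.Prime 2) := ⟨Nat.prime_two⟩
          obtain ⟨⟨z, hz⟩, hzo⟩ := exists_prime_orderOf_dvd_card' (G := centralizer ({x} : Set P₂)) 2 (hc ▸ dvd_mul_left 2 _)
          rw [Subgroup.orderOf_mk] at hzo
          obtain ⟨-, hzc, -⟩ := Cfsg.Lib.Ree.PSL.involution_centralizer hodd hzo
          rw [if_neg (by omega), hq] at hzc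
          have hx' : orderOf x ∣ q + 1 := hzc ▸ Subgroup.orderOf_dvd_natCard _
            (mem_centralizer_singleton_iff.2 (mem_centralizer_singleton_iff.1 hz).symm)
          have hx'' : orderOf x ∣ q - 1 := hxd.trans (Nat.div_dvd_of_dvd (by omega))
          have h22 : orderOf x ∣ 2 := by
            have := Nat.dvd_sub hx' hx''
            rwa [show q + 1 - (q - 1) = 2 by omega] at this
          rcases (Nat.dvd_prime Nat.prime_two).1 h22 with e | e
          · exact hx1 (orderOf_eq_one_iff.1 e)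
          · rw [e] at hodd'; exact absurd hodd' (by decide)
      · exfalso
        have h1 : (q - 1) / 2 ∣ q + 1 := hd.trans h
        have h2 : (q - 1) / 2 ∣ 2 := by
          have := Nat.dvd_sub h1 (Nat.div_dvd_of_dvd (show 2 ∣ q - 1 by omega))
          rwa [show q + 1 - (q - 1) = 2 by omega] at this
        have := Nat.le_of_dvd two_pos h2
        omega
    · rw [MulEquiv.orderOf_eq]
      refine orderOf_eq_prime ?_ fun e => ?_
      · rw [← map_pow, prj_eq_one_iff, pow_two, weyl_sq]; exact Or.inr rfl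
      · rcases (prj_eq_one_iff _).1 e with e' | e' <;>
        · have h := congrArg (fun z : SL(2, F) => (z : Matrix (Fin 2) (Fin 2) F) 0 1) e'
          simp [weyl] at h
    · have h0 : b (prj weyl) * b a * (b (prj weyl))⁻¹ = (b a)⁻¹ := by
        rw [← map_inv, ← map_mul, ← map_mul, ← map_inv, ha, ← map_inv, ← map_inv, ← map_mul, ← map_mul,
          weyl_torus, mul_inv_cancel_right, map_inv]
      intro x hx
      obtain ⟨i, rfl⟩ := mem_zpowers_iff.1 hx
      rw [← conj_zpow, h0, _root_.inv_zpow]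
  · obtain ⟨-, hzc, -⟩ := Cfsg.Lib.Ree.PSL.involution_centralizer hodd hz
    rwa [if_neg (by omega), hq] at hzc
  · -- inverted subgroups
    intro H hH g hg
    rcases eq_or_ne H ⊥ with rfl | hne
    · left; simp
    obtain ⟨h, hh, hh1⟩ := H.bot_or_exists_ne_one.resolve_left hne
    have hab : ∀ x ∈ H, x ∈ centralizer ({h} : Set P₂) := by
      intro x hx
      refine mem_centralizer_singleton_iff.2 (inv_injective ?_)
      calc (x * h)⁻¹ = g * (x * h) * g⁻¹ := (hg _ (mul_mem hx hh)).symm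
        _ = (g * x * g⁻¹) * (g * h * g⁻¹) := by group
        _ = (h * x)⁻¹ := by rw [hg x hx, hg h hh, _root_.mul_inv_rev]
    have hd : Nat.card H ∣ Nat.card (centralizer ({h} : Set P₂)) := card_dvd_of_le hab
    rcases hcc h hh1 with ⟨h3, -⟩ | hc | hc
    · exfalso
      have hu := orderOf_eq_prime h3 hh1
      -- the cube one elements are not inverted
      obtain ⟨P, hP⟩ := (IsPGroup.of_card (p := 3) (n := 1) (G := zpowers h)
        (by rw [Nat.card_zpowers, hu, pow_one])).exists_le_sylow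
      exact hnr h h3 hh1 g (hg h hh)
    · left
      refine (Nat.coprime_two_right.2 hH).dvd_of_dvd_mul_right ?_
      rw [Nat.div_mul_cancel (by omega)]
      exact hd.trans hc
    · right
      refine ((Nat.coprime_two_right.2 hH).pow_right 2).dvd_of_dvd_mul_right ?_
      rw [Nat.div_mul_cancel (by omega)]
      exact hd.trans hc

end Model

/-- The same for an isomorphic group. -/
theorem PSLThree.of_equiv {X : Type u} [Group X] [Finite X] {Y : Type v} [Group Y] [Finite Y] {q : ℕ}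
    (hY : PSLThree Y q) (e : X ≃* Y) : PSLThree X q := by
  classical
  haveI : Fact (Nat.Prime 3) := ⟨Nat.prime_three⟩
  have hS : ∀ P : Sylow 3 X, ∃ Q : Sylow 3 Y, (Q : Subgroup Y) = (P : Subgroup X).map e.toMonoidHom := fun P =>
    ⟨P.mapSurjective (f := e.toMonoidHom) e.surjective, rfl⟩
  have hmem : ∀ (P : Subgroup X) (u : X), e u ∈ P.map e.toMonoidHom ↔ u ∈ P := fun P u =>
    mem_map_iff_mem (f := e.toMonoidHom) e.injective
  have hcen : ∀ u : X, (centralizer ({u} : Set X)).map e.toMonoidHom = centralizer ({e u} : Set Y) := by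
    intro u
    ext y
    obtain ⟨x, rfl⟩ := e.surjective y
    rw [hmem, mem_centralizer_singleton_iff, mem_centralizer_singleton_iff, ← map_mul, ← map_mul, e.injective.eq_iff]
  have hcard : ∀ P : Subgroup X, Nat.card (P.map e.toMonoidHom) = Nat.card P := fun P =>
    Subgroup.card_map_of_injective e.injective
  have hnorm : ∀ P : Subgroup X, (normalizer (P : Set X)).map e.toMonoidHom =
      normalizer ((P.map e.toMonoidHom : Subgroup Y) : Set Y) := fun P =>
    Subgroup.map_equiv_normalizer_eq P e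
  refine ⟨?_, fun P => ?_, fun P u hu => ?_, fun P u hu hu1 => ?_, fun P a ha b hb => ?_, fun P => ?_, ?_, fun P => ?_, fun z hz => ?_, ?_⟩
  · rw [Nat.card_congr e.toEquiv]; exact hY.card
  · obtain ⟨Q, hQ⟩ := hS P
    rw [← hcard, ← hQ, hY.sylow]
  · obtain ⟨Q, hQ⟩ := hS P
    refine e.injective ?_
    rw [map_pow, map_one]
    exact hY.cube Q (e u) (hQ.ge ((hmem _ _).2 hu))
  · obtain ⟨Q, hQ⟩ := hS P
    refine map_injective e.injective (f := e.toMonoidHom) ?_
    rw [hcen, hY.cen Q (e u) (hQ.ge ((hmem _ _).2 hu)) (fun h => hu1 (e.injective (h.trans e.map_one.symm))), hQ]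
  · obtain ⟨Q, hQ⟩ := hS P
    refine e.injective ?_
    rw [map_mul, map_mul]
    exact hY.comm Q (e a) (hQ.ge ((hmem _ _).2 ha)) (e b) (hQ.ge ((hmem _ _).2 hb))
  · obtain ⟨Q, hQ⟩ := hS P
    rw [← hcard, hnorm, ← hQ, hY.norm]
  · intro u hu hu1 g hg
    refine hY.not_real (e u) (by rw [← map_pow, hu, map_one]) (fun h => hu1 (e.injective (h.trans e.map_one.symm))) (e g) ?_
    rw [← map_inv, ← map_mul, ← map_mul, hg, map_inv]
  · obtain ⟨Q, hQ⟩ := hS P
    obtain ⟨T, hT, hTc, hTn, hTa, w, hw, hwT⟩ := hY.torus Q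
    have hback : (T.map e.symm.toMonoidHom).map e.toMonoidHom = T := by
      ext y; simp [Subgroup.mem_map]
    refine ⟨T.map e.symm.toMonoidHom, ?_, ?_, ?_, fun a ha ha1 => ?_, e.symm w, ?_, fun a ha => ?_⟩
    · refine (map_le_map_iff_of_injective (f := e.toMonoidHom) e.injective).1 ?_
      rw [hback, hnorm, ← hQ]
      exact hT
    · haveI := hTc
      exact isCyclic_of_surjective (e.symm.toMonoidHom.subgroupMap T) (MonoidHom.subgroupMap_surjective _ T)
    · rw [Subgroup.card_map_of_injective e.symm.injective, hTn]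
    · refine map_injective e.injective (f := e.toMonoidHom) ?_
      obtain ⟨y, hy, rfl⟩ := ha
      rw [hcen, hback, MulEquiv.coe_toMonoidHom, e.apply_symm_apply]
      exact hTa y hy fun h => ha1 (by rw [h]; exact map_one _)
    · rw [MulEquiv.orderOf_eq]; exact hw
    · obtain ⟨y, hy, rfl⟩ := ha
      rw [MulEquiv.coe_toMonoidHom, ← map_inv, ← map_inv, ← map_mul, ← map_mul, hwT y hy]
  · rw [← hcard, hcen]
    exact hY.cen_invol _ ((e.orderOf_eq z).trans hz)
  · intro H hH g hg
    have := hY.inverted (H.map e.toMonoidHom) (by rw [hcard]; exact hH) (e g) (by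
      rintro _ ⟨h, hh, rfl⟩
      rw [MulEquiv.coe_toMonoidHom, ← map_inv, ← map_inv, ← map_mul, ← map_mul, hg h hh])
    rwa [hcard] at this

end Cfsg.Lib.ReeAb
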