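import Cfsg.Agent.ReeAbelian.Degrees
import Cfsg.Agent.ReeAbelian.PSL

/-!
The group-theoretic data of a simple group of Ree type.
-/

set_option autoImplicit false
set_option linter.unusedSectionVars false
set_option linter.style.haveILetI false

namespace Cfsg.Lib.ReeAb

open Subgroup

universe u v

/-- The data: `C(t) = ⟨t⟩ × E`, `E ≅ PSL(2, q)`, `q = 3^(2m+1)`, the order of the group. -/
structure Base {G : Type u} [Group G] [Finite G] (t : G) (E : Subgroup G) (q : ℕ) : Prop where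
  simple : IsSimpleGroup G
  q_eq : ∃ m : ℕ, 1 ≤ m ∧ q = 3 ^ (2 * m + 1)
  card : Nat.card G = q ^ 3 * (q ^ 3 + 1) * (q - 1)
  ord : orderOf t = 2
  comm : ∀ e ∈ E, Commute t e
  split : ∀ x : G, Commute x t → ∃ e ∈ E, x = e ∨ x = t * e
  disj : t ∉ E
  psl : PSLThree E q
  conj_all : ∀ s : G, orderOf s = 2 → IsConj t s
  two_sq : ∀ x : G, (∃ k, orderOf x = 2 ^ k) → x * x = 1
  two_comm : ∀ S : Sylow 2 G, IsMulCommutative ↥(S : Subgroup G)
  frame : ∀ v ∈ E, orderOf v = 2 → ∃ Φ : Ree.Frame t, Φ.v = v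
  no_large : ∀ r : ℕ, r.Prime → r ∣ q ^ 2 - q + 1 → ∀ (x g : G) (k : ℕ),
    orderOf x = 3 ^ (k + 1) → orderOf g = r → Commute x g → False

theorem Base.of_setting {G : Type u} [Group G] [Finite G] {t : G} {E : Subgroup G} {F : Type v} [Field F]
    [Fintype F] (H : Ree.Setting t E F) : Base t E (Fintype.card F) := by
  classical
  haveI : Fact (Nat.Prime 2) := ⟨Nat.prime_two⟩
  letI := Fintype.ofFinite G
  letI := Fintype.ofFinite E
  obtain ⟨D⟩ := exists_ctx H
  obtain ⟨m, hm, hF, hG, -⟩ := exists_three_chars H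
  refine
    { simple := H.simple
      q_eq := ⟨m, hm, hF⟩
      card := hG
      ord := H.hyp.ord
      comm := H.hyp.comm
      split := H.hyp.split
      disj := H.hyp.disj
      psl := (model_facts hm hF).of_equiv H.hyp.iso.some
      conj_all := D.SF.conj_all
      two_sq := ?_
      two_comm := H.ab
      frame := fun v hv hv2 => H.exists_frame hv hv2
      no_large := fun r hr hd x g k hx hg hc => no_three_commute H hr hd hx hg hc }
  intro x hx
  obtain ⟨T, a, b, n, S⟩ := AbCentMax.exists_sys H.hyp H.ab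
  obtain ⟨k, hk⟩ := hx
  obtain ⟨R, hR⟩ := (IsPGroup.of_card (p := 2) (n := k) (G := zpowers x) (by rw [Nat.card_zpowers, hk])).exists_le_sylow
  obtain ⟨g, hg⟩ := MulAction.exists_smul_eq G T R
  have hxR : x ∈ (g • T : Sylow 2 G) := hg ▸ hR (mem_zpowers x)
  rw [← SetLike.mem_coe, Sylow.coe_smul, Set.mem_smul_set] at hxR
  obtain ⟨y, hy, rfl⟩ := hxR
  have hy2 : y * y = 1 := by
    have ha := Ree.sq_one_of_order S.ao
    have hb := Ree.sq_one_of_order S.bo
    have hab : Commute a b := S.tcomm a S.aT b S.bT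
    obtain ⟨w, hw, r⟩ := S.cases y hy
    have hwT : w ∈ T ∧ w * w = 1 := by
      rcases hw with rfl | rfl | rfl | rfl
      · exact ⟨one_mem _, one_mul 1⟩
      · exact ⟨S.aT, ha⟩
      · exact ⟨S.bT, hb⟩
      · exact ⟨mul_mem S.aT S.bT, by rw [hab.symm.mul_mul_mul_comm, ha, hb, one_mul]⟩
    rcases r with rfl | rfl
    · exact hwT.2
    · rw [(S.tcomm w hwT.1 t S.tT).mul_mul_mul_comm, Ree.sq_one_of_order H.hyp.ord, hwT.2, one_mul]
  rw [← smul_mul', hy2, smul_one]

namespace Base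

variable {G : Type u} [Group G] [Finite G] {t : G} {E : Subgroup G} {q : ℕ} (B : Base t E q)
include B

theorem q_ge : 27 ≤ q := by
  obtain ⟨m, hm, rfl⟩ := B.q_eq
  exact le_trans (by norm_num) (Nat.pow_le_pow_right three_pos (show 3 ≤ 2 * m + 1 by omega))

theorem three_dvd_q : 3 ∣ q := by
  obtain ⟨m, hm, rfl⟩ := B.q_eq
  exact dvd_pow_self 3 (by omega)

theorem q_mod : q % 8 = 3 := by
  obtain ⟨m, hm, rfl⟩ := B.q_eq
  rw [pow_succ, pow_mul, Nat.mul_mod, Nat.pow_mod]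
  norm_num

omit B in
theorem five_not_dvd (n : ℕ) : ¬ 5 ∣ n ^ 2 - n + 1 := by
  intro h
  have h0 : ((n ^ 2 - n + 1 : ℕ) : ZMod 5) = 0 := (ZMod.natCast_eq_zero_iff _ _).2 h
  push_cast [Nat.le_self_pow two_ne_zero n] at h0
  revert h0
  generalize (n : ZMod 5) = a
  revert a
  decide

/-- The factorisation of the order into parts prime to each other. -/
theorem parts : ∃ A C D : ℕ, q - 1 = 2 * A ∧ q + 1 = 4 * C ∧ D = q ^ 2 - q + 1 ∧
    Nat.card G = q ^ 3 * 8 * A * C * D ∧ Odd A ∧ Odd C ∧ Odd D ∧ ¬ 3 ∣ A ∧ ¬ 3 ∣ C ∧ ¬ 3 ∣ D ∧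
    A.Coprime C ∧ A.Coprime D ∧ C.Coprime D ∧ ¬ 5 ∣ D := by
  have h8 := B.q_mod
  have hq := B.q_ge
  obtain ⟨u, hu⟩ := B.three_dvd_q
  have hqq : q ≤ q ^ 2 := Nat.le_self_pow two_ne_zero q
  refine ⟨(q - 1) / 2, (q + 1) / 4, _, by omega, by omega, rfl, ?_, Nat.odd_iff.2 (by omega), Nat.odd_iff.2 (by omega),
    ?_, by omega, by omega, ?_, ?_, ?_, ?_, five_not_dvd q⟩
  · have e : q ^ 3 + 1 = (q + 1) * (q ^ 2 - q + 1) := by
      zify [hqq]
      ring
    rw [B.card, e]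
    have ha : q - 1 = 2 * ((q - 1) / 2) := by omega
    have hc : q + 1 = 4 * ((q + 1) / 4) := by omega
    nth_rw 1 [ha, hc]
    ring
  · rw [Nat.odd_iff]
    have : q ^ 2 - q = q * (q - 1) := by rw [Nat.mul_sub, mul_one, pow_two]
    rw [this, Nat.add_mod, Nat.mul_mod, show (q - 1) % 2 = 0 by omega]
    simp
  · intro h
    have hz : (3 : ℤ) ∣ (q : ℤ) ^ 2 - q + 1 := by
      have := Int.natCast_dvd_natCast.2 h
      push_cast [hqq] at this
      exact this
    rw [show (q : ℤ) = 3 * (u : ℤ) by exact_mod_cast hu] at hz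
    obtain ⟨w, hw⟩ := hz
    have : (3 : ℤ) ∣ 1 := ⟨w - 3 * (u : ℤ) ^ 2 + u, by linear_combination hw⟩
    omega
  · refine Nat.coprime_of_dvd fun p hp h1 h2 => ?_
    have ha : p ∣ q - 1 := h1.trans (Nat.div_dvd_of_dvd (by omega))
    have hc : p ∣ q + 1 := h2.trans (Nat.div_dvd_of_dvd (by omega))
    have := Nat.dvd_sub hc ha
    rw [show q + 1 - (q - 1) = 2 by omega] at this
    obtain rfl := (Nat.prime_dvd_prime_iff_eq hp Nat.prime_two).1 this
    omega
  · refine Nat.coprime_of_dvd fun p hp h1 h2 => ?_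
    have ha : (p : ℤ) ∣ (q : ℤ) - 1 := by
      have := Int.natCast_dvd_natCast.2 (h1.trans (Nat.div_dvd_of_dvd (show 2 ∣ q - 1 by omega)))
      rwa [Nat.cast_sub (by omega), Nat.cast_one] at this
    have hd : (p : ℤ) ∣ (q : ℤ) ^ 2 - q + 1 := by
      have := Int.natCast_dvd_natCast.2 h2
      push_cast [hqq] at this
      exact this
    have := hd.sub (ha.mul_right (q : ℤ))
    rw [show (q : ℤ) ^ 2 - q + 1 - (q - 1) * q = 1 by ring] at this
    exact hp.not_dvd_one (by exact_mod_cast this)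
  · refine Nat.coprime_of_dvd fun p hp h1 h2 => ?_
    have hc : (p : ℤ) ∣ (q : ℤ) + 1 := by
      exact_mod_cast Int.natCast_dvd_natCast.2 (h1.trans (Nat.div_dvd_of_dvd (show 4 ∣ q + 1 by omega)))
    have hd : (p : ℤ) ∣ (q : ℤ) ^ 2 - q + 1 := by
      have := Int.natCast_dvd_natCast.2 h2
      push_cast [hqq] at this
      exact this
    have := hd.sub (hc.mul_right ((q : ℤ) - 2))
    rw [show (q : ℤ) ^ 2 - q + 1 - (q + 1) * (q - 2) = 3 by ring] at this
    obtain rfl := (Nat.prime_dvd_prime_iff_eq hp Nat.prime_three).1 (by exact_mod_cast this)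
    omega

theorem t_ne : t ≠ 1 := Ree.ne_one_of_order (by norm_num) B.ord

theorem tt : t * t = 1 := Ree.sq_one_of_order B.ord

theorem odd_mem_E {x : G} (hx : Odd (orderOf x)) (hc : Commute x t) : x ∈ E := by
  obtain ⟨e, he, rfl | rfl⟩ := B.split x hc
  · exact he
  · exfalso
    have h1 : t ^ orderOf (t * e) * e ^ orderOf (t * e) = 1 := by
      rw [← (B.comm e he).mul_pow, pow_orderOf_eq_one]
    obtain ⟨k, hk⟩ := hx
    rw [show t ^ orderOf (t * e) = t by rw [hk, pow_succ, pow_mul, pow_two, B.tt, one_pow, one_mul]] at h1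
    exact B.disj (by rw [eq_inv_of_mul_eq_one_left h1]; exact inv_mem (pow_mem he _))

/-- An odd subgroup of `C(t)` lies in `E`. -/
theorem le_E {H : Subgroup G} (hH : Odd (Nat.card H)) (hc : ∀ x ∈ H, Commute x t) : H ≤ E := fun x hx =>
  B.odd_mem_E (hH.of_dvd_nat (H.orderOf_dvd_natCard hx)) (hc x hx)

/-- Every involution is conjugate to `t`. -/
theorem exists_conj {s : G} (hs : orderOf s = 2) : ∃ g : G, g * s * g⁻¹ = t := by
  obtain ⟨g, hg⟩ := isConj_iff.1 (B.conj_all s hs).symm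
  exact ⟨g, hg⟩

theorem card_E : 2 * Nat.card E = q * (q ^ 2 - 1) := B.psl.card

omit B in
/-- A subgroup whose order has the full power of a prime contains a conjugate of every element of that order. -/
theorem exists_conj_mem {r : ℕ} (hr : r.Prime) {K : Subgroup G}
    (hK : r ^ (Nat.card G).factorization r ∣ Nat.card K) {y : G} {k : ℕ} (hy : orderOf y = r ^ k) :
    ∃ g : G, g * y * g⁻¹ ∈ K := by
  haveI : Fact r.Prime := ⟨hr⟩
  obtain ⟨R⟩ := (inferInstance : Nonempty (Sylow r K))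
  have hR : Nat.card ((R : Subgroup K).map K.subtype) = r ^ (Nat.card G).factorization r := by
    rw [card_map_of_injective K.subtype_injective, R.card_eq_multiplicity]
    congr 1
    refine le_antisymm ((Nat.factorization_le_iff_dvd Nat.card_pos.ne' Nat.card_pos.ne').2 K.card_subgroup_dvd_card r) ?_
    exact (hr.pow_dvd_iff_le_factorization Nat.card_pos.ne').1 hK
  obtain ⟨S, hS⟩ := ((R.2.map K.subtype)).exists_le_sylow
  have hSK : (S : Subgroup G) ≤ K := by
    rw [← Subgroup.eq_of_le_of_card_ge hS (by rw [hR, S.card_eq_multiplicity])]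
    exact map_subtype_le _
  obtain ⟨Y, hY⟩ := (IsPGroup.of_card (p := r) (n := k) (G := zpowers y) (by rw [Nat.card_zpowers, hy])).exists_le_sylow
  obtain ⟨g, hg⟩ := MulAction.exists_smul_eq G Y S
  refine ⟨g, hSK ?_⟩
  rw [← hg, Sylow.coe_subgroup_smul]
  exact ⟨y, hY (mem_zpowers y), rfl⟩

/-- The prime factors of the order. -/
theorem prime_cases {r : ℕ} (hr : r.Prime) (hd : r ∣ Nat.card G) :
    r = 2 ∨ r = 3 ∨ r ∣ (q - 1) / 2 ∨ r ∣ (q + 1) / 4 ∨ r ∣ q ^ 2 - q + 1 := by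
  obtain ⟨m, -, hm⟩ := B.q_eq
  obtain ⟨A, C, D, hA, hC, hD, hG, -⟩ := B.parts
  rw [hG] at hd
  rw [show (q - 1) / 2 = A by omega, show (q + 1) / 4 = C by omega, ← hD]
  rcases hr.dvd_mul.1 hd with h | h
  · rcases hr.dvd_mul.1 h with h | h
    · rcases hr.dvd_mul.1 h with h | h
      · rcases hr.dvd_mul.1 h with h | h
        · exact Or.inr (Or.inl ((Nat.prime_dvd_prime_iff_eq hr Nat.prime_three).1
            (hr.dvd_of_dvd_pow (hm ▸ hr.dvd_of_dvd_pow h))))
        · exact Or.inl ((Nat.prime_dvd_prime_iff_eq hr Nat.prime_two).1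
            (hr.dvd_of_dvd_pow (show r ∣ 2 ^ 3 from h)))
      · exact Or.inr (Or.inr (Or.inl h))
    · exact Or.inr (Or.inr (Or.inr (Or.inl h)))
  · exact Or.inr (Or.inr (Or.inr (Or.inr h)))

/-- The odd parts of the order. -/
theorem factorization_eq {r : ℕ} (hr : r.Prime) :
    (r ∣ (q - 1) / 2 → (Nat.card G).factorization r = ((q - 1) / 2).factorization r) ∧
    (r ∣ (q + 1) / 4 → (Nat.card G).factorization r = ((q + 1) / 4).factorization r) := by
  obtain ⟨m, -, hm⟩ := B.q_eq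
  obtain ⟨A, C, D, hA, hC, hD, hG, hAo, hCo, hDo, hA3, hC3, hD3, hAC, hAD, hCD, -⟩ := B.parts
  rw [show (q - 1) / 2 = A by omega, show (q + 1) / 4 = C by omega]
  have hq := B.q_ge
  have hq3 : q ^ 3 ≠ 0 := by positivity
  have hA0 : A ≠ 0 := by omega
  have hC0 : C ≠ 0 := by omega
  have hD0 : D ≠ 0 := by omega
  have hfac : (Nat.card G).factorization r = (q ^ 3).factorization r + (8 : ℕ).factorization r + A.factorization r +
      C.factorization r + D.factorization r := by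
    rw [hG, Nat.factorization_mul (by positivity) hD0, Nat.factorization_mul (by positivity) hC0,
      Nat.factorization_mul (by positivity) hA0, Nat.factorization_mul hq3 (by norm_num)]
    rfl
  have h3 : ∀ n, ¬ 3 ∣ n → r ∣ n → ¬ r ∣ q ^ 3 := fun n hn hrn h => hn
    ((Nat.prime_dvd_prime_iff_eq hr Nat.prime_three).1 (hr.dvd_of_dvd_pow (hm ▸ hr.dvd_of_dvd_pow h)) ▸ hrn)
  have h2 : ∀ n, Odd n → r ∣ n → ¬ r ∣ 8 := fun n hn hrn h => by
    obtain rfl := (Nat.prime_dvd_prime_iff_eq hr Nat.prime_two).1 (hr.dvd_of_dvd_pow (show r ∣ 2 ^ 3 from h))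
    exact Nat.not_even_iff_odd.2 hn (even_iff_two_dvd.2 hrn)
  have hz : ∀ {n}, ¬ r ∣ n → n.factorization r = 0 := fun h => Nat.factorization_eq_zero_of_not_dvd h
  refine ⟨fun h => ?_, fun h => ?_⟩
  · rw [hfac, hz (h3 A hA3 h), hz (h2 A hAo h), hz (fun h' => hr.not_dvd_one (hAC.gcd_eq_one ▸ Nat.dvd_gcd h h')),
      hz (fun h' => hr.not_dvd_one (hAD.gcd_eq_one ▸ Nat.dvd_gcd h h'))]
    omega
  · rw [hfac, hz (h3 C hC3 h), hz (h2 C hCo h), hz (fun h' => hr.not_dvd_one (hAC.gcd_eq_one ▸ Nat.dvd_gcd h' h)),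
      hz (fun h' => hr.not_dvd_one (hCD.gcd_eq_one ▸ Nat.dvd_gcd h h'))]
    omega

end Base

end Cfsg.Lib.ReeAb
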