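import Cfsg.Agent.ReeAbelian.Sylow
import Cfsg.Agent.Chars.NormTwo
import Cfsg.Agent.Chars.TI
import Cfsg.Agent.Chars.Inertia
import Cfsg.Agent.Chars.Galois
import Cfsg.Agent.Chars.Gallagher
import Cfsg.Agent.OddChar.Dual

/-!
Groups of Ree type with abelian Sylow 3-subgroups: the characters induced from the normalizer of a
Sylow 3-subgroup give a large family of irreducible characters with a common value off the 3-singular
classes, which the order of the group does not allow.
-/

set_option autoImplicit false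
set_option linter.unusedSectionVars false
set_option linter.style.haveILetI false

namespace Cfsg.Lib.ReeAb

open Subgroup Cfsg.Lib.Chars
open scoped ComplexConjugate

universe u

variable {G : Type u} [Group G] [Fintype G]

/-- An algebraic conjugate-small character value is zero. -/
theorem eq_zero_of_small {χ : G → ℂ} (hχ : Cfsg.IsCharacter G χ) (g : G)
    (hs : ∀ σ : ℂ ≃+* ℂ, ‖σ (χ g)‖ < 1) : χ g = 0 := by
  haveI : NeZero (orderOf g) := ⟨(orderOf_pos g).ne'⟩
  haveI := finiteDimensional_cycField (orderOf g)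
  haveI := isGalois_cycField (orderOf g)
  set K := cycField (orderOf g)
  set a : K := ⟨χ g, IsCharacter.mem_cycField hχ dvd_rfl⟩ with ha
  have haint : IsIntegral ℤ a := by
    have : IsIntegral ℤ (algebraMap K ℂ a) := IsCharacter.isIntegral hχ g
    exact (isIntegral_algebraMap_iff (algebraMap K ℂ).injective).mp this
  obtain ⟨z, hz⟩ := IsIntegrallyClosed.isIntegral_iff.mp (Algebra.isIntegral_norm ℚ haint)
  have hb : ∀ τ : Gal(K/ℚ), ‖((τ a : K) : ℂ)‖ < 1 := by
    intro τ
    obtain ⟨σ, hσ⟩ := exists_extend_auto K τ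
    rw [← hσ]
    exact hs σ
  have hnorm : ‖((algebraMap ℚ K (Algebra.norm ℚ a) : K) : ℂ)‖ < 1 := by
    classical
    rw [Algebra.norm_eq_prod_automorphisms ℚ a, ← IntermediateField.coe_val, map_prod, norm_prod,
      ← Finset.mul_prod_erase Finset.univ _ (Finset.mem_univ (1 : Gal(K/ℚ)))]
    exact lt_of_le_of_lt (mul_le_of_le_one_right (norm_nonneg _)
      (Finset.prod_le_one (fun τ _ => norm_nonneg _) fun τ _ => (hb τ).le)) (hb 1)
  rw [← hz] at hnorm
  have hz0 : z = 0 := by
    have h2 : ‖(z : ℂ)‖ < 1 := by simpa using hnorm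
    rw [Complex.norm_intCast] at h2
    exact Int.abs_lt_one_iff.mp (by exact_mod_cast h2)
  rw [hz0, map_zero] at hz
  exact congrArg (fun x : K => (x : ℂ)) (Algebra.norm_eq_zero_iff.mp hz.symm : a = 0)

/-- A character vanishing off the identity of a subgroup has degree divisible by its order. -/
theorem card_dvd_deg_of_vanish (R : Subgroup G) {χ : G → ℂ} (hχ : Cfsg.IsCharacter G χ)
    (hc : ∀ a ∈ R, a ≠ 1 → χ a = 0) : Nat.card R ∣ deg χ := by
  classical
  haveI : Fintype R := Fintype.ofFinite _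
  obtain ⟨k, hk⟩ := classInner_char_nat (IsCharacter.restrict hχ R) (isCharacter_one (G := R))
  rw [classInner_def, Finset.sum_eq_single (1 : R)
    (fun b _ hb => by rw [hc b b.2 fun e => hb (Subtype.ext e), zero_mul])
    (fun h => absurd (Finset.mem_univ _) h), OneMemClass.coe_one, map_one, mul_one,
    inv_mul_eq_iff_eq_mul₀ (by exact_mod_cast Nat.card_pos.ne'), IsCharacter.apply_one_eq_deg hχ] at hk
  exact ⟨k, by exact_mod_cast hk⟩

/-- Two involutions with a product of odd order are conjugate by a power of the product. -/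
theorem exists_conj_zpowers {s w : G} (hs : s * s = 1) (hw : w * w = 1) (ho : Odd (orderOf (s * w))) :
    ∃ g ∈ zpowers (s * w), g * s * g⁻¹ = w := by
  obtain ⟨k, hk⟩ := ho
  have hsi : s⁻¹ = s := inv_eq_of_mul_eq_one_right hs
  have hwi : w⁻¹ = w := inv_eq_of_mul_eq_one_right hw
  have h1 : SemiconjBy s (s * w)⁻¹ (s * w) := by
    show s * (s * w)⁻¹ = s * w * s
    rw [_root_.mul_inv_rev, hsi, hwi, ← mul_assoc]
  have hsemi : s * ((s * w) ^ k)⁻¹ = (s * w) ^ k * s := by
    have h := (h1.pow_right k).eq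
    rwa [inv_pow] at h
  refine ⟨(s * w) ^ k, pow_mem (mem_zpowers _) k, ?_⟩
  have h2 : (s * w) ^ (2 * k + 1) = 1 := hk ▸ pow_orderOf_eq_one _
  rw [mul_assoc, hsemi, ← mul_assoc, ← pow_add, ← two_mul]
  rw [pow_succ] at h2
  rw [eq_inv_of_mul_eq_one_left h2, _root_.mul_inv_rev, hsi, hwi, mul_assoc, hs, mul_one]

variable {t : G} {E : Subgroup G} {q : ℕ}

namespace Base

variable (B : Base t E q)
include B

/-- The involutions of the normalizer of a Sylow 3-subgroup are conjugate in it. -/
theorem norm_invol_conj {P : Sylow 3 G} (htN : t ∈ normalizer ((P : Subgroup G) : Set G)) {y : G}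
    (hy : orderOf y = 2) (hyN : y ∈ normalizer ((P : Subgroup G) : Set G)) :
    ∃ n ∈ normalizer ((P : Subgroup G) : Set G), n * t * n⁻¹ = y := by
  have hyy := Ree.sq_one_of_order hy
  set N := normalizer ((P : Subgroup G) : Set G) with hN
  rcases Nat.even_or_odd (orderOf (t * y)) with he | ho
  · exfalso
    obtain ⟨j, hj⟩ := he
    have hpos := orderOf_pos (t * y)
    set w := (t * y) ^ j with hw
    have hw2 : orderOf w = 2 := by
      refine orderOf_eq_prime (p := 2) ?_ (pow_ne_one_of_lt_orderOf (by omega) (by omega))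
      rw [hw, ← pow_mul, show j * 2 = orderOf (t * y) by omega, pow_orderOf_eq_one]
    have hww := Ree.sq_one_of_order hw2
    have hsemi : ∀ s : G, SemiconjBy s (t * y) (t * y)⁻¹ → Commute s w := fun s h => by
      have h' := h.pow_right j
      rw [inv_pow, ← hw, inv_eq_of_mul_eq_one_right hww] at h'
      exact h'
    have hct : Commute t w := hsemi t (by
      show t * (t * y) = (t * y)⁻¹ * t
      rw [_root_.mul_inv_rev, inv_eq_of_mul_eq_one_right hyy, inv_eq_of_mul_eq_one_right B.tt, ← mul_assoc,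
        B.tt, one_mul, mul_assoc, B.tt, mul_one])
    have hcy : Commute y w := hsemi y (by
      show y * (t * y) = (t * y)⁻¹ * y
      rw [_root_.mul_inv_rev, inv_eq_of_mul_eq_one_right hyy, inv_eq_of_mul_eq_one_right B.tt, mul_assoc])
    have hwN : w ∈ N := pow_mem (mul_mem htN hyN) j
    have h1 := B.norm_invol_eq B.ord hw2 htN hwN hct
    have h2 := B.norm_invol_eq hy hw2 hyN hwN hcy
    rw [h1, h2, hww, orderOf_one] at hj
    omega
  · obtain ⟨g, hg, h⟩ := exists_conj_zpowers B.tt hyy ho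
    exact ⟨g, zpowers_le.2 (mul_mem htN hyN) hg, h⟩

/-- A family of at least `q ^ 2 + q` irreducible characters that agree off the 3-elements. -/
theorem exists_columns {P : Sylow 3 G} (D : NormData t q P) (hP : IsMulCommutative ↥(P : Subgroup G)) :
    ∃ (ι : Type u) (_ : Fintype ι) (μ : ι → G → ℂ), q ^ 2 + q ≤ Fintype.card ι ∧
      (∀ i, Cfsg.IsIrrCharacter G (μ i)) ∧ Function.Injective μ ∧
      ∀ i j, ∀ g : G, (∀ x : G, x⁻¹ * g * x ∈ (P : Subgroup G) → g = 1) → μ i g = μ j g := by
  classical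
  have hq := B.q_ge
  set N := normalizer ((P : Subgroup G) : Set G) with hN
  letI : Fintype N := Fintype.ofFinite N
  set Q : Subgroup N := (P : Subgroup G).subgroupOf N with hQ
  haveI : Q.Normal := normal_in_normalizer
  letI : Fintype Q := Fintype.ofFinite Q
  haveI : Finite (Q →* ℂˣ) := Dual.instFiniteHom
  letI : Fintype (Q →* ℂˣ) := Fintype.ofFinite _
  have hQc : Nat.card Q = q ^ 3 := (Nat.card_congr (subgroupOfEquivOfLe le_normalizer).toEquiv).trans D.card_P
  have hcomm : ∀ a b : Q, a * b = b * a := fun a b => Subtype.ext (Subtype.ext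
    (congrArg Subtype.val (mul_comm' (⟨_, mem_subgroupOf.1 a.2⟩ : (P : Subgroup G)) ⟨_, mem_subgroupOf.1 b.2⟩) :))
  have hodd : ∀ x : Q, Odd (orderOf x) := fun x => (Nat.odd_iff.2 (by
    rw [hQc, Nat.pow_mod, show q % 2 = 1 by have := B.q_mod; omega]) : Odd (Nat.card Q)).of_dvd_nat (orderOf_dvd_natCard x)
  set tN : N := ⟨t, D.t_norm⟩ with htN
  let Free : (Q →* ℂˣ) → Prop := fun a => ∀ g : N, conjN Q g (Dual.ev a) = Dual.ev a → g ∈ Q
  let Fixed : (Q →* ℂˣ) → Prop := fun a => conjN Q tN (Dual.ev a) = Dual.ev a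
  have hcls : ∀ a : Q →* ℂˣ, Cfsg.IsClassFunction Q (Dual.ev a) := fun a g h => by
    rw [hcomm h g, mul_inv_cancel_right]
  -- non-free characters are fixed by `t`
  have hfixed : ∀ a, ¬ Free a → Fixed a := by
    intro a ha
    simp only [Free, not_forall] at ha
    obtain ⟨g, hg, hgQ⟩ := ha
    set I := inertia Q (Dual.ev a) with hI
    have hQI : Q ≤ I := le_inertia (hcls a)
    obtain ⟨r, hr, hrI⟩ := Nat.exists_prime_and_dvd (n := Q.relIndex I) fun e => hgQ (relIndex_eq_one.1 e hg)
    have hr3 : r ≠ 3 := by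
      rintro rfl
      have h1 : Q.relIndex I ∣ q - 1 := by
        refine Nat.dvd_of_mul_dvd_mul_left (show 0 < q ^ 3 by positivity) ?_
        rw [← D.card_norm, ← hQc, show Nat.card Q * Q.relIndex I = Nat.card I by
          rw [← Nat.card_congr (subgroupOfEquivOfLe hQI).toEquiv]; exact card_mul_index _]
        exact card_subgroup_dvd_card I
      have := hrI.trans h1
      obtain ⟨u, hu⟩ := B.three_dvd_q
      omega
    haveI : Fact r.Prime := ⟨hr⟩
    obtain ⟨⟨y, hyI⟩, hy⟩ := exists_prime_orderOf_dvd_card' (G := I) r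
      (hrI.trans ((Q.subgroupOf I).index_dvd_card))
    rw [Subgroup.orderOf_mk] at hy
    have hyo : orderOf (y : G) = r := by rw [orderOf_coe, hy]
    have hya : conjN Q y (Dual.ev a) = Dual.ev a := hyI
    rcases D.prime_cases y y.2 r hr hyo with h | rfl | hfpf
    · exact absurd h hr3
    · obtain ⟨n, hn, hny⟩ := B.norm_invol_conj D.t_norm hyo y.2
      obtain ⟨p, hp, h, hht, rfl⟩ := D.decomp n hn
      set pN : N := ⟨p, le_normalizer hp⟩
      have hy' : y = pN * tN * pN⁻¹ := Subtype.ext (by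
        rw [← hny]
        show p * h * t * (p * h)⁻¹ = p * t * p⁻¹
        rw [show p * h * t * (p * h)⁻¹ = p * (h * t * h⁻¹) * p⁻¹ by group, hht.eq, mul_inv_cancel_right])
      have hpQ : ∀ v : N, (v : G) ∈ (P : Subgroup G) → ∀ b, conjN Q v (Dual.ev b) = Dual.ev b :=
        fun v hv b => conjN_of_mem (hcls b) ⟨v, mem_subgroupOf.2 hv⟩
      show conjN Q tN (Dual.ev a) = Dual.ev a
      rw [show tN = pN⁻¹ * (y * pN) by rw [hy']; group, conjN_mul, hpQ pN⁻¹ (inv_mem hp), conjN_mul, hya,
        hpQ pN hp]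
    · have hinj : Function.Injective (fun x : Q => x⁻¹ * (⟨y * x * y⁻¹, ‹Q.Normal›.conj_mem x x.2 y⟩ : Q)) := by
        intro x x' h
        have h' := congrArg (fun z : Q => ((z : N) : G)) h
        simp only [Subgroup.coe_mul, Subgroup.coe_inv] at h'
        set X : G := ((x : N) : G)
        set X' : G := ((x' : N) : G)
        have hz : X * X'⁻¹ ∈ (P : Subgroup G) :=
          mul_mem (mem_subgroupOf.1 x.2) (inv_mem (mem_subgroupOf.1 x'.2))
        have hcy : Commute (X * X'⁻¹) y := by
          show X * X'⁻¹ * y = y * (X * X'⁻¹)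
          rw [inv_mul_eq_iff_eq_mul, ← mul_assoc] at h'
          calc X * X'⁻¹ * y = ((y : G) * X * (y : G)⁻¹) * ((y : G) * X' * (y : G)⁻¹)⁻¹ * y := by
                rw [mul_inv_eq_iff_eq_mul.2 h']
            _ = y * (X * X'⁻¹) := by group
        exact Subtype.ext (Subtype.ext (mul_inv_eq_one.1 (hfpf _ hz hcy)))
      have h1 : a = 1 := MonoidHom.ext fun z => by
        obtain ⟨x, rfl⟩ := (Finite.injective_iff_surjective.1 hinj) z
        rw [map_mul, map_inv, MonoidHom.one_apply, inv_mul_eq_one]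
        exact Units.ext (congrFun hya x).symm
      subst h1
      funext x
      simp [conjN, Dual.ev]
  -- the characters fixed by `t`
  have hfix : (Finset.univ.filter Fixed).card ≤ q := by
    set F := (P : Subgroup G) ⊓ centralizer ({t} : Set G)
    let inc : F →* Q :=
      { toFun := fun x => ⟨⟨x, le_normalizer x.2.1⟩, mem_subgroupOf.2 x.2.1⟩
        map_one' := rfl
        map_mul' := fun _ _ => rfl }
    rw [← Fintype.card_subtype, ← Nat.card_eq_fintype_card, ← D.card_fix, ← Dual.card_hom (A := F) (fun a b =>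
      Subtype.ext (congrArg Subtype.val (mul_comm' (⟨a, a.2.1⟩ : (P : Subgroup G)) ⟨b, b.2.1⟩) :))]
    haveI : Finite (F →* ℂˣ) := Dual.instFiniteHom
    refine Nat.card_le_card_of_injective (fun a => a.1.comp inc) fun a b hab => ?_
    refine Subtype.ext (MonoidHom.ext fun x => ?_)
    set x' : Q := ⟨tN * x * tN⁻¹, ‹Q.Normal›.conj_mem x x.2 tN⟩ with hx'
    have hmem : ((x * x' : Q) : N).1 ∈ F := by
      refine ⟨mem_subgroupOf.1 (x * x').2, mem_centralizer_singleton_iff.2 ?_⟩
      have hc := congrArg (fun z : Q => ((z : N) : G)) (hcomm x x')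
      simp only [hx', htN, Subgroup.coe_mul, Subgroup.coe_inv, inv_eq_of_mul_eq_one_right B.tt] at hc ⊢
      set X : G := ((x : N) : G)
      calc X * (t * X * t) * t = t * X * t * X * t := by rw [hc]
        _ = t * (X * (t * X * t)) := by group
    have hval := DFunLike.congr_fun hab ⟨_, hmem⟩
    change a.1 (x * x') = b.1 (x * x') at hval
    have hax : a.1 x' = a.1 x := Units.ext (congrFun a.2 x)
    have hbx : b.1 x' = b.1 x := Units.ext (congrFun b.2 x)
    rw [map_mul, map_mul, hax, hbx, ← sq, ← sq] at hval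
    rw [← div_eq_one, ← orderOf_eq_one_iff]
    refine Nat.eq_one_of_dvd_coprimes (Nat.coprime_two_left.2 (hodd x))
      (orderOf_dvd_of_pow_eq_one (by rw [div_pow, hval, div_self'])) (orderOf_dvd_of_pow_eq_one ?_)
    rw [div_pow, ← map_pow, ← map_pow, pow_orderOf_eq_one, map_one, map_one, div_one]
  -- the irreducible characters induced from free characters
  set Fr := Finset.univ.filter Free with hFr
  have hFrc : q ^ 3 - q ≤ Fr.card := by
    have h1 := Finset.card_filter_add_card_filter_not (s := (Finset.univ : Finset (Q →* ℂˣ))) Free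
    have h2 : (Finset.univ.filter fun a => ¬ Free a).card ≤ q :=
      le_trans (Finset.card_le_card fun a ha => Finset.mem_filter.2 ⟨Finset.mem_univ _,
        hfixed a (Finset.mem_filter.1 ha).2⟩) hfix
    rw [Finset.card_univ, ← Nat.card_eq_fintype_card, Dual.card_hom hcomm, hQc, ← hFr] at h1
    omega
  let th : (Q →* ℂˣ) → N → ℂ := fun a => Cfsg.indFun Q (Dual.ev a)
  have hidx : Q.index = q - 1 := by
    refine Nat.eq_of_mul_eq_mul_left (show 0 < q ^ 3 by positivity) ?_
    rw [← D.card_norm, ← hQc, card_mul_index]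
  have hth : ∀ a ∈ Fr, Cfsg.IsIrrCharacter N (th a) := fun a ha => by
    refine isIrrCharacter_of_norm_one (IsCharacter.indFun (isCharacter_linear a)) ?_
    have h := classInner_indFun_eq_card Q (Dual.isIrr_ev a) (Dual.isIrr_ev a)
    rw [show Nat.card {g : N // conjN Q g (Dual.ev a) = Dual.ev a} = Nat.card Q from
      Nat.card_congr (Equiv.subtypeEquivRight fun g => ⟨(Finset.mem_filter.1 ha).2 g,
        fun hg => conjN_of_mem (hcls a) ⟨g, hg⟩⟩)] at h
    exact mul_left_cancel₀ (by exact_mod_cast Nat.card_pos.ne' : (Nat.card Q : ℂ) ≠ 0) (h.trans (mul_one _).symm)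
  set S := Fr.image th with hS
  have hfib : ∀ f ∈ S, (Fr.filter fun a => th a = f).card ≤ q - 1 := by
    intro f hf
    obtain ⟨a, ha, rfl⟩ := Finset.mem_image.1 hf
    have horb : (conjOrbit Q (Dual.ev a)).card = q - 1 := by
      refine Nat.eq_of_mul_eq_mul_right (show 0 < q ^ 3 by positivity) ?_
      rw [mul_comm (q - 1), ← D.card_norm, ← hQc, show Nat.card Q = Nat.card (inertia Q (Dual.ev a)) from
        congrArg (fun K : Subgroup N => Nat.card K) (le_antisymm (le_inertia (hcls a))
          (fun g hg => (Finset.mem_filter.1 ha).2 g hg)), card_conjOrbit]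
    rw [← horb]
    refine Finset.card_le_card_of_injOn Dual.ev (fun b hb => ?_) (fun b _ c _ h => Dual.ev_injective h)
    obtain ⟨hb, hba⟩ := Finset.mem_filter.1 hb
    have h := classInner_indFun_eq_card Q (Dual.isIrr_ev a) (Dual.isIrr_ev b)
    change (Nat.card Q : ℂ) * Cfsg.classInner (th a) (th b) = _ at h
    rw [hba, classInner_self_irr (hth a ha), mul_one] at h
    have hpos : 0 < Nat.card {g : N // conjN Q g (Dual.ev a) = Dual.ev b} := by
      rw [← Nat.cast_inj.1 h]; exact Nat.card_pos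
    obtain ⟨g, hg⟩ := (Nat.card_pos_iff.1 hpos).1
    exact (mem_conjOrbit Q).2 ⟨g, hg⟩
  have hSc : q ^ 2 + q ≤ S.card := by
    have h1 := hFrc.trans (Finset.card_le_mul_card_image Fr (q - 1) hfib)
    refine Nat.le_of_mul_le_mul_left (le_trans (le_of_eq ?_) h1) (show 0 < q - 1 by omega)
    have hq3 : q ≤ q ^ 3 := Nat.le_self_pow (by norm_num) q
    zify [hq3, show 1 ≤ q by omega]
    ring
  obtain ⟨f₀, hf₀⟩ := Finset.card_pos.1 (show 0 < S.card by omega)
  let i₀ : S := ⟨f₀, hf₀⟩
  have hSirr : ∀ i : S, Cfsg.IsIrrCharacter N (i : N → ℂ) := fun i => by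
    obtain ⟨a, ha, e⟩ := Finset.mem_image.1 i.2
    exact e ▸ hth a ha
  set T : Set G := ((P : Subgroup G) : Set G)
  have hS1 : ∀ i : S, (i : N → ℂ) 1 = ((q - 1 : ℕ) : ℂ) := fun i => by
    obtain ⟨a, -, e⟩ := Finset.mem_image.1 i.2
    rw [← e]
    show Cfsg.indFun Q (Dual.ev a) 1 = _
    rw [indFun_one, hidx]
    simp [Dual.ev]
  have hSoff : ∀ i : S, ∀ x : N, (x : G) ∉ T → (i : N → ℂ) x = 0 := fun i x hx => by
    obtain ⟨a, -, e⟩ := Finset.mem_image.1 i.2
    rw [← e]
    exact indFun_normal_not_mem Q _ fun h => hx (mem_subgroupOf.1 h)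
  let d : S → N → ℂ := fun i => (i : N → ℂ) - (i₀ : N → ℂ)
  let τ : S → G → ℂ := fun i => Cfsg.indFun N (d i)
  have hd1 : ∀ i, d i 1 = 0 := fun i => by simp [d, hS1]
  have hdoff : ∀ i, ∀ x : N, (x : G) ∉ T → d i x = 0 := fun i x hx => by simp [d, hSoff _ x hx]
  have hdgen : ∀ i, Cfsg.IsGeneralizedCharacter N (d i) := fun i =>
    IsGeneralizedCharacter.sub (IsCharacter.isGeneralized (isCharacter_of_irr (hSirr i)))
      (IsCharacter.isGeneralized (isCharacter_of_irr (hSirr i₀)))
  have hinner : ∀ i j, Cfsg.classInner (τ i) (τ j) = Cfsg.classInner (d i) (d j) := fun i j => by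
    simp only [τ]
    rw [frobenius_reciprocity N (d i) (isClassFunction_indFun N (d j)), classInner_def, classInner_def]
    refine congrArg _ (Finset.sum_congr rfl fun x _ => ?_)
    by_cases hx : (x : G) ∈ T
    · by_cases h1 : x = 1
      · rw [h1, hd1, zero_mul, zero_mul]
      · rw [indFun_TI_apply' N T (fun g hg z hz hz' => D.ti g hg z hz hz')
          (isClassFunction_generalized (hdgen j)) (hdoff j) x hx h1]
    · rw [hdoff i x hx, zero_mul, zero_mul]
  obtain ⟨ε, hε, μ, hμ, hμi, hμτ⟩ := exists_star i₀ τ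
    (by simp only [τ, d, sub_self, indFun_zero]) (fun i => IsGeneralizedCharacter.indFun (hdgen i))
    (fun i => by show Cfsg.indFun N (d i) 1 = 0; rw [indFun_one, hd1, mul_zero])
    (fun i j hi hj => by
      have key : Cfsg.classInner (τ i) (τ j) = (if i = j then 1 else 0) + 1 := by
        rw [hinner, classInner_sub_left, classInner_sub_right, classInner_sub_right,
          classInner_irrChar (hSirr i) (hSirr j), classInner_irrChar (hSirr i) (hSirr i₀),
          classInner_irrChar (hSirr i₀) (hSirr j), classInner_irrChar (hSirr i₀) (hSirr i₀)]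
        simp only [Subtype.coe_inj, hi, (Ne.symm hj), if_false, if_true]
        ring
      refine ⟨fun e => ?_, fun e => ?_⟩
      · rw [key, if_pos e]; norm_num
      · rw [key, if_neg e, zero_add])
  refine ⟨S, inferInstance, μ, by rwa [Fintype.card_coe], hμ, hμi, fun i j g hg => ?_⟩
  have hτ : ∀ k, μ k g = μ i₀ g := fun k => by
    have h0 : τ k g = 0 := by
      show Cfsg.indFun N (d k) g = 0
      rw [indFun_apply, Finset.sum_eq_zero fun x _ => ?_, mul_zero]
      by_cases hx : x⁻¹ * g * x ∈ N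
      · rw [extendByZero_mem _ hx]
        by_cases hP' : x⁻¹ * g * x ∈ T
        · have he : (⟨x⁻¹ * g * x, hx⟩ : N) = 1 := Subtype.ext (by simp [hg x hP'])
          rw [he, hd1]
        · exact hdoff k _ hP'
      · rw [extendByZero_not_mem _ hx]
    rw [hμτ k] at h0
    rcases hε with rfl | rfl <;> simp [sub_eq_zero] at h0 <;> first | exact h0 | exact h0.symm
  rw [hτ i, hτ j]

/-- The Sylow 3-subgroups are not abelian. -/
theorem not_abelian_three : ¬ ∀ P : Sylow 3 G, IsMulCommutative ↥(P : Subgroup G) := by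
  classical
  intro hA
  obtain ⟨P, D⟩ := B.exists_normData hA
  obtain ⟨ι, hι, μ, hn, hμ, hμi, heq⟩ := B.exists_columns D (hA P)
  obtain ⟨i₀⟩ : Nonempty ι := Fintype.card_pos_iff.1 (by have := B.q_ge; nlinarith)
  obtain ⟨A, C, Dd, hA', hC', hD, hG, hAo, hCo, hDo, hA3, hC3, hD3, -⟩ := B.parts
  have hq := B.q_ge
  -- a column is at least the family times the common value
  have hcol : ∀ g : G, (∀ x : G, x⁻¹ * g * x ∈ (P : Subgroup G) → g = 1) → ∀ σ : ℂ ≃+* ℂ,
      (Fintype.card ι : ℝ) * Complex.normSq (σ (μ i₀ g)) ≤ Nat.card (centralizer ({g} : Set G)) := by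
    intro g hg σ
    have hcols : ∑ χ : Cfsg.IrrCharacter G, Complex.normSq ((χ : G → ℂ) g) =
        (Nat.card (centralizer ({g} : Set G)) : ℝ) := by
      apply Complex.ofReal_injective
      simp only [Complex.ofReal_sum, Complex.normSq_eq_conj_mul_self]
      rw [Finset.sum_congr rfl fun χ _ => mul_comm _ _, second_orthogonality, if_pos (IsConj.refl _)]
      simp
    let F : ι → Cfsg.IrrCharacter G := fun i => ⟨_, IsIrrCharacter.map_auto (hμ i) σ⟩
    have hF : Function.Injective F := fun i j h => hμi (funext fun x =>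
      σ.injective (congrFun (congrArg Subtype.val h) x))
    rw [← hcols]
    refine le_of_eq_of_le ?_ (Finset.sum_le_sum_of_subset_of_nonneg (Finset.subset_univ (Finset.univ.image F))
      fun χ _ _ => Complex.normSq_nonneg _)
    rw [Finset.sum_image fun i _ j _ h => hF h]
    show _ = ∑ i, Complex.normSq (σ (μ i g))
    rw [Finset.sum_congr rfl fun i _ => by rw [heq i i₀ g hg], Finset.sum_const, Finset.card_univ, nsmul_eq_mul]
  -- the family vanishes on the elements of prime power order dividing `A * Dd`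
  have hdeg : A * Dd ∣ deg (μ i₀) := by
    refine (Nat.dvd_iff_prime_pow_dvd_dvd _ _).2 fun r k hr hrk => ?_
    rcases k with _ | k
    · simp
    haveI : Fact r.Prime := ⟨hr⟩
    have hr1 : r ∣ A ∨ r ∣ Dd := hr.dvd_mul.1 ((dvd_pow_self r (by omega)).trans hrk)
    have hr3 : r ≠ 3 := by
      rintro rfl
      rcases hr1 with h | h
      · exact hA3 h
      · exact hD3 h
    obtain ⟨R⟩ := (inferInstance : Nonempty (Sylow r G))
    refine (R.pow_dvd_card_of_pow_dvd_card (hrk.trans ⟨q ^ 3 * 8 * C, by rw [hG]; ring⟩)).trans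
      (card_dvd_deg_of_vanish _ (isCharacter_of_irr (hμ i₀)) fun g hg hg1 => ?_)
    obtain ⟨j, hj⟩ := IsPGroup.iff_orderOf.1 R.2 ⟨g, hg⟩
    rw [Subgroup.orderOf_mk] at hj
    rcases j with _ | j
    · exact absurd (orderOf_eq_one_iff.1 (by simpa using hj)) hg1
    have hne : ∀ x : G, x⁻¹ * g * x ∈ (P : Subgroup G) → g = 1 := fun x hx => by
      by_contra hg'
      have hc : orderOf (x⁻¹ * g * x) = orderOf g := by
        simpa [MulAut.conj_apply] using (MulAut.conj x⁻¹).orderOf_eq g
      obtain ⟨i, hi⟩ := B.order_three P.2 hx (fun e => hg' (by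
        rwa [← orderOf_eq_one_iff, hc, orderOf_eq_one_iff] at e))
      rw [hc, hj] at hi
      exact hr3 ((Nat.prime_dvd_prime_iff_eq hr Nat.prime_three).1
        (hr.dvd_of_dvd_pow (hi ▸ dvd_pow_self r (Nat.succ_ne_zero j))))
    refine eq_zero_of_small (isCharacter_of_irr (hμ i₀)) g fun σ => ?_
    have hc : (Nat.card (centralizer ({g} : Set G)) : ℝ) < Fintype.card ι := by
      exact_mod_cast lt_of_lt_of_le (B.small_cen hr (by
        rwa [show (q - 1) / 2 = A by omega, ← hD]) hj) hn
    have h := hcol g hne σ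
    rw [Complex.normSq_eq_norm_sq] at h
    have hι0 : (0 : ℝ) < Fintype.card ι := lt_of_le_of_lt (Nat.cast_nonneg _) hc
    by_contra hle
    push Not at hle
    nlinarith [mul_le_mul_of_nonneg_left (one_le_pow₀ hle : (1 : ℝ) ≤ ‖σ (μ i₀ g)‖ ^ 2) hι0.le]
  -- the order of the group is too small
  have h1 := hcol 1 (fun _ _ => rfl) (RingEquiv.refl ℂ)
  rw [RingEquiv.refl_apply, IsCharacter.apply_one_eq_deg (isCharacter_of_irr (hμ i₀)), Complex.normSq_natCast,
    show centralizer ({(1 : G)} : Set G) = ⊤ from eq_top_iff.2 fun x _ => mem_centralizer_singleton_iff.2 (by simp),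
    Subgroup.card_top] at h1
  have h2 : Fintype.card ι * (deg (μ i₀) * deg (μ i₀)) ≤ Nat.card G := by exact_mod_cast h1
  have hpos : 0 < deg (μ i₀) := deg_irr_pos ⟨_, hμ i₀⟩
  have h3 : (q ^ 2 + q) * ((A * Dd) * (A * Dd)) ≤ q ^ 3 * 8 * A * C * Dd := hG ▸ le_trans
    (Nat.mul_le_mul hn (Nat.mul_le_mul (Nat.le_of_dvd hpos hdeg) (Nat.le_of_dvd hpos hdeg))) h2
  have hD0 : 0 < Dd := by omega
  have hA0 : 0 < A := by omega
  rw [show q ^ 2 + q = q * (4 * C) by rw [← hC']; ring] at h3
  have h4 : (4 * (q * C) * (A * Dd)) * (A * Dd) ≤ (4 * (q * C) * (A * Dd)) * (2 * q ^ 2) :=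
    le_trans (le_of_eq (by ring)) (h3.trans (le_of_eq (by ring)))
  have h5 := Nat.le_of_mul_le_mul_left h4 (by
    have : 0 < C := by omega
    positivity)
  have hDq : q ^ 2 ≤ 2 * Dd := by
    have : 2 * q ≤ q ^ 2 := by nlinarith
    omega
  have hA13 : 13 ≤ A := by omega
  have h6 : 13 * Dd ≤ A * Dd := Nat.mul_le_mul_right _ hA13
  omega

end Base

end Cfsg.Lib.ReeAb
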