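import Cfsg.Agent.Ree.Assembly.Main
import Cfsg.Agent.Ree.PSL.Main
import Cfsg.Agent.Ree.Section.Main
import Cfsg.Agent.Ree.Torus.Func.Main
import Cfsg.Agent.Blocks.RegularCongr
import Cfsg.Agent.Chars.DefectZero

/-!
Groups of Ree type: three characters of the principal 2-block, and the elements of order dividing `q² - q + 1`
centralize no element of order a power of 3 when the Sylow 3-subgroups are large.
-/

set_option autoImplicit false
set_option linter.unusedSectionVars false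
set_option linter.style.haveILetI false

namespace Cfsg.Lib.ReeAb

open Cfsg Cfsg.Lib.Ree Cfsg.Lib.Chars Cfsg.Lib.Blocks

universe u v

variable {G : Type u} [Group G] [Fintype G] {t : G} {E : Subgroup G} [Fintype E] {F : Type v} [Field F]
  [Fintype F]

/-- A context exists. -/
theorem exists_ctx (H : Setting t E F) : Nonempty (Ctx t E F) := by
  obtain ⟨Tb⟩ := Cfsg.Lib.Ree.pslSpec.{u, v} F E H.mod H.big H.hyp.iso
  obtain ⟨M, hM⟩ := exists_isPModular (p := 2) Nat.prime_two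
  obtain ⟨SF, SB, ⟨R⟩⟩ := sectSpec.{u, v} G t E F H Tb M hM
  obtain ⟨TF⟩ := torusSpec.{u, v} G t E F H Tb SF
  exact ⟨⟨H, Tb, M, SF, SB, R, TF⟩⟩

/-- The first configuration occurs. -/
theorem exists_five_typeA (D : Ctx t E F) : ∃ S : Ctx.Five D,
    TypeA (signedCard F) D.h (-D.d S.e1) (D.d S.c3) (D.d S.c4) (D.d S.c5) (D.d S.c6) := by
  have h := D.R.mem_systems
  simp only [systems, List.mem_cons, List.not_mem_nil, or_false] at h
  rcases h with h | h | h | h
  · refine (D.even_false _ (fun χ hχ => ?_) (D.targets D.TF.θ₀_ne).2.2).elim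
    have hm : D.R.row χ ∈ D.R.L.map D.R.row := List.mem_map_of_mem hχ
    rw [h] at hm
    revert hm
    generalize D.R.row χ = r
    revert r
    simp
  · refine (D.even_false _ (fun χ hχ => ?_) (D.targets D.TF.θ₀_ne).2.1).elim
    have hm : D.R.row χ ∈ D.R.L.map D.R.row := List.mem_map_of_mem hχ
    rw [h] at hm
    revert hm
    generalize D.R.row χ = r
    revert r
    simp
  · obtain ⟨S⟩ := D.exists_seven h
    exact S.result.elim
  · obtain ⟨S⟩ := D.exists_five h
    exact S.exists_typeA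

/-- In the first configuration the second degree is fixed by the number of involutions. -/
theorem typeA_index {Q h D2 D3 D4 D5 D6 : ℤ} (hA : TypeA Q h D2 D3 D4 D5 D6) : h = -(Q ^ 2 * D2) := by
  obtain ⟨⟨hpp, h8, h11, hh, -, ⟨n2, -, n4, n5, n6⟩, hx, ha, -, -, ex, ea⟩, rfl, ef⟩ := hA
  obtain ⟨M, rfl, hM, hM4⟩ := exists_mid h8
  rw [hM] at ea ef
  have hM0' : (M : ℚ) ≠ 0 := Int.cast_ne_zero.2 (show M ≠ 0 by omega)
  have n2' : (D2 : ℚ) ≠ 0 := Int.cast_ne_zero.2 n2
  push_cast at ex ea ef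
  have hQ0 : (2 * (M : ℚ) - 1) ≠ 0 := by exact_mod_cast (by omega : (2 * M - 1 : ℤ) ≠ 0)
  simp only [div_eq_mul_inv, one_mul, mul_inv] at ex ea ef
  have h1 : (h : ℚ) * (D2 : ℚ)⁻¹ * (2 * M) = -(2 * (M : ℚ) - 1) ^ 2 * (2 * M) := by
    have hi : (2 * (M : ℚ) - 1) * (2 * (M : ℚ) - 1)⁻¹ = 1 := mul_inv_cancel₀ hQ0
    linear_combination (-1 / 8 : ℚ) * ef - (1 / 4 : ℚ) * ea + (1 / 8 : ℚ) * ex +
      (1 / 8 : ℚ) * (h : ℚ) * (2 * (M : ℚ) - 1) * (D2 : ℚ)⁻¹ * hi
  have h2 := mul_right_cancel₀ (mul_ne_zero two_ne_zero hM0') h1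
  rw [← div_eq_mul_inv, div_eq_iff n2'] at h2
  have : (h : ℚ) = ((-((2 * M - 1) ^ 2 * D2) : ℤ) : ℚ) := by push_cast; linear_combination h2
  exact_mod_cast this

/-- The three characters with their degrees and the relation at the elements of odd order. -/
theorem exists_three_chars (H : Setting t E F) : ∃ m : ℕ, 1 ≤ m ∧ Fintype.card F = 3 ^ (2 * m + 1) ∧
    Nat.card G = Fintype.card F ^ 3 * (Fintype.card F ^ 3 + 1) * (Fintype.card F - 1) ∧
    ∃ (a b c : IrrCharacter G) (sa sb sc : ℤ),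
      (deg (a : G → ℂ) : ℤ) = (Fintype.card F : ℤ) ^ 2 - Fintype.card F + 1 ∧
      (deg (b : G → ℂ) : ℤ) = Fintype.card F * ((Fintype.card F : ℤ) ^ 2 - Fintype.card F + 1) ∧
      deg (c : G → ℂ) = Fintype.card F ^ 3 ∧
      ∀ g : G, Odd (orderOf g) →
        (sa : ℂ) * (a : G → ℂ) g + (sb : ℂ) * (b : G → ℂ) g + (sc : ℂ) * (c : G → ℂ) g = 1 := by
  obtain ⟨D⟩ := exists_ctx H
  obtain ⟨S, hA⟩ := exists_five_typeA D
  obtain ⟨m, hm, hQ, hh⟩ := typeASpec _ _ _ _ _ _ _ hA
  have hh2 := typeA_index hA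
  have hF : Fintype.card F = 3 ^ (2 * m + 1) := by
    have h : (Fintype.card F : ℤ) = ((3 : ℕ) ^ (2 * m + 1) : ℕ) := by rw [D.card_F.1, hQ]; simp
    exact_mod_cast h
  have hQ' : signedCard F = -(Fintype.card F : ℤ) := by rw [hQ, hF]; push_cast; ring
  obtain ⟨-, hG⟩ : True ∧ Nat.card G = Fintype.card F ^ 3 * (Fintype.card F ^ 3 + 1) * (Fintype.card F - 1) := by
    refine ⟨trivial, ?_⟩
    rw [D.SF.order]
    have hidx : ((Subgroup.centralizer ({t} : Set G)).index : ℤ) =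
        (Fintype.card F : ℤ) ^ 2 * ((Fintype.card F : ℤ) ^ 2 - Fintype.card F + 1) := by
      have h' : D.h = ((Subgroup.centralizer ({t} : Set G)).index : ℤ) := rfl
      rw [← h', hh, hQ']
      ring
    have h1 : 1 ≤ Fintype.card F := Fintype.card_pos
    have h2 : 1 ≤ Fintype.card F ^ 2 := Nat.one_le_pow _ _ h1
    zify [h1, h2]
    rw [hidx]
    ring
  have hq0 : (Fintype.card F : ℤ) ≠ 0 := by exact_mod_cast Fintype.card_ne_zero
  have hd1 : D.d S.e1 = (Fintype.card F : ℤ) ^ 2 - Fintype.card F + 1 := by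
    refine mul_left_cancel₀ (pow_ne_zero 2 hq0) ?_
    rw [hh2, hQ'] at hh
    linear_combination hh
  have hd3 : D.d S.c3 = Fintype.card F * ((Fintype.card F : ℤ) ^ 2 - Fintype.card F + 1) := by
    rw [hA.prop, hQ', hd1]; ring
  have hd4 : D.d S.c4 = -((Fintype.card F : ℤ) ^ 3) := by
    have := S.cols.1
    rw [hd1, hd3] at this
    linear_combination this
  have habs : ∀ χ : IrrCharacter G, (deg (χ : G → ℂ) : ℤ) = |D.d χ| := fun χ => by
    have h1 : |D.R.sg χ| = 1 := by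
      rcases Int.mul_eq_one_iff_eq_one_or_neg_one.1 (D.R.sg_sq χ) with ⟨e, -⟩ | ⟨e, -⟩ <;> simp [e]
    rw [Ctx.d, abs_mul, h1, one_mul, Nat.abs_cast]
  have hpos : 0 ≤ (Fintype.card F : ℤ) ^ 2 - Fintype.card F + 1 := by nlinarith
  refine ⟨m, hm, hF, hG, S.e1, S.c3, S.c4, D.R.sg S.e1, D.R.sg S.c3, D.R.sg S.c4, ?_, ?_, ?_, fun g hg => ?_⟩
  · rw [habs, hd1, abs_of_nonneg hpos]
  · rw [habs, hd3, abs_of_nonneg (mul_nonneg (by positivity) hpos)]
  · have := habs S.c4
    rw [hd4, abs_neg, abs_of_nonneg (by positivity)] at this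
    exact_mod_cast this
  · have h := D.SF.odd_sum D.Tb.x D.Tb.spec_x g hg
    rw [D.sum_split, Finset.sum_eq_zero (fun χ hχ => by rw [(D.R.rest χ (D.mem_O.1 hχ)).1, zero_mul]), add_zero,
      S.sum] at h
    obtain ⟨m0, m1, m5, m6, m7, m8, m3, m4⟩ := S.mem
    obtain ⟨r0, r1, r5, r6, r7, r8, r3, r4⟩ := S.rows
    obtain ⟨o', L', hL, ho, hs⟩ := D.R.head
    have hrow : D.R.row o' = (1, 0, 0) := by
      have hm := D.R.mem_systems
      rw [hL, List.map_cons] at hm
      simp only [systems, List.mem_cons, List.cons.injEq, List.not_mem_nil, or_false] at hm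
      rcases hm with ⟨e, -⟩ | ⟨e, -⟩ | ⟨e, -⟩ | ⟨e, -⟩ <;> exact e
    have ho' : o' = S.o := by
      classical
      have he : o' ≠ S.e1 := fun e => by
        have h1 : deg (o' : G → ℂ) = 1 := by
          have : (deg (o' : G → ℂ) : ℂ) = ((1 : ℕ) : ℂ) := by rw [← irr_apply_one_eq_deg, ho]; simp
          exact_mod_cast this
        have h2 := habs S.e1
        rw [hd1, abs_of_nonneg hpos, ← e, h1] at h2
        have h11 : (11 : ℤ) ≤ Fintype.card F := by exact_mod_cast H.big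
        push_cast at h2
        nlinarith
      by_contra hne
      have h1 : 1 ≤ (D.R.L.map fun χ => if χ = o' then 1 else 0).sum := by
        rw [hL]; simp
      rw [S.sum] at h1
      have hne' : ∀ χ : IrrCharacter G, D.R.row χ ≠ (1, 0, 0) → (if χ = o' then 1 else 0) = 0 := fun χ hχ =>
        if_neg fun e => hχ (by rw [e]; exact hrow)
      rw [hne' S.c5 (by rw [r5]; decide), hne' S.c6 (by rw [r6]; decide), hne' S.c7 (by rw [r7]; decide),
        hne' S.c8 (by rw [r8]; decide), hne' S.c3 (by rw [r3]; decide), hne' S.c4 (by rw [r4]; decide),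
        if_neg (Ne.symm hne), if_neg (Ne.symm he)] at h1
      omega
    rw [(D.R.coords _ m0).1, (D.R.coords _ m1).1, (D.R.coords _ m5).1, (D.R.coords _ m6).1, (D.R.coords _ m7).1,
      (D.R.coords _ m8).1, (D.R.coords _ m3).1, (D.R.coords _ m4).1, r0, r1, r5, r6, r7, r8, r3, r4, ← ho', hs, ho] at h
    push_cast at h
    linear_combination h

/-- An element of prime order dividing `q² - q + 1` commutes with no element of order a positive power of `3`. -/
theorem no_three_commute (H : Setting t E F) {r : ℕ} (hr : r.Prime)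
    (hrd : r ∣ Fintype.card F ^ 2 - Fintype.card F + 1) {x g : G} {k : ℕ} (hx : orderOf x = 3 ^ (k + 1))
    (hg : orderOf g = r) (hc : Commute x g) : False := by
  classical
  obtain ⟨m, hm, hF, hG, a, b, c, sa, sb, sc, hda, hdb, hdc, hsum⟩ := exists_three_chars H
  generalize hq : Fintype.card F = q at *
  have hq27 : 27 ≤ q := by
    rw [hF]
    exact le_trans (by norm_num) (Nat.pow_le_pow_right three_pos (show 3 ≤ 2 * m + 1 by omega))
  have hqq : q ≤ q ^ 2 := Nat.le_self_pow two_ne_zero q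
  set D2 := q ^ 2 - q + 1 with hD2
  have hD2z : ((D2 : ℕ) : ℤ) = (q : ℤ) ^ 2 - q + 1 := by rw [hD2]; push_cast [hqq]; ring
  have hda' : deg (a : G → ℂ) = D2 := by exact_mod_cast hda.trans hD2z.symm
  have hdb' : deg (b : G → ℂ) = q * D2 := by
    have : (deg (b : G → ℂ) : ℤ) = ((q * D2 : ℕ) : ℤ) := by rw [hdb, Nat.cast_mul, hD2z]
    exact_mod_cast this
  have h3q : 3 ∣ q := hF ▸ dvd_pow_self 3 (by omega)
  have hGf : Nat.card G = q ^ 3 * ((q + 1) * (q - 1)) * D2 := by
    rw [hG]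
    have : q ^ 3 + 1 = (q + 1) * D2 := by
      zify
      rw [hD2z]
      ring
    rw [this]; ring
  -- `r` is prime to the rest of the order
  have hr3 : r ≠ 3 := by
    rintro rfl
    obtain ⟨u, hu⟩ := h3q
    obtain ⟨w, hw⟩ := hrd
    have : (q : ℤ) ^ 2 - q + 1 = 3 * (w : ℤ) := by rw [← hD2z]; exact_mod_cast hw
    rw [show (q : ℤ) = 3 * (u : ℤ) by exact_mod_cast hu] at this
    have : (3 : ℤ) ∣ 1 := ⟨(w : ℤ) - 3 * u ^ 2 + u, by linear_combination this⟩
    omega
  have hz : (r : ℤ) ∣ (q : ℤ) ^ 2 - q + 1 := hD2z ▸ Int.natCast_dvd_natCast.2 hrd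
  have hrq : ¬ r ∣ q := fun h => hr3 ((Nat.prime_dvd_prime_iff_eq hr Nat.prime_three).1 (hr.dvd_of_dvd_pow (hF ▸ h)))
  have hp : Prime (r : ℤ) := Nat.prime_iff_prime_int.1 hr
  have hrest : ¬ r ∣ q ^ 3 * ((q + 1) * (q - 1)) := by
    intro h
    rcases hr.dvd_mul.1 h with h' | h'
    · exact hrq (hr.dvd_of_dvd_pow h')
    · rcases hr.dvd_mul.1 h' with h'' | h''
      · have h1 : (r : ℤ) ∣ (q : ℤ) + 1 := by exact_mod_cast Int.natCast_dvd_natCast.2 h''
        have : (r : ℤ) ∣ 3 := by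
          have := hz.sub (h1.mul_right ((q : ℤ) - 2))
          rwa [show (q : ℤ) ^ 2 - q + 1 - (q + 1) * (q - 2) = 3 by ring] at this
        exact hr3 ((Nat.prime_dvd_prime_iff_eq hr Nat.prime_three).1 (by exact_mod_cast this))
      · have h1 : (r : ℤ) ∣ (q : ℤ) - 1 := by
          have := Int.natCast_dvd_natCast.2 h''
          rwa [Nat.cast_sub (by omega), Nat.cast_one] at this
        have : (r : ℤ) ∣ 1 := by
          have := hz.sub (h1.mul_right (q : ℤ))
          rwa [show (q : ℤ) ^ 2 - q + 1 - (q - 1) * q = 1 by ring] at this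
        exact hr.not_dvd_one (by exact_mod_cast this)
  obtain ⟨n, hn, hn'⟩ : ∃ n, r ^ n ∣ D2 ∧ ¬ r ^ (n + 1) ∣ D2 := by
    refine ⟨D2.factorization r, Nat.ordProj_dvd _ _, Nat.pow_succ_factorization_not_dvd (by omega) hr⟩
  have hnG : r ^ n ∣ Nat.card G := hn.trans (hGf ▸ Dvd.intro_left _ rfl)
  have hnG' : ¬ r ^ (n + 1) ∣ Nat.card G := fun h => hn' <|
    (((hr.coprime_iff_not_dvd).2 hrest).pow_left (n + 1)).dvd_of_dvd_mul_left (hGf ▸ h)
  -- the element of order `3`-power times the element of order `r`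
  have hco : Nat.Coprime (orderOf g) (orderOf x) := by
    rw [hg, hx]
    exact ((Nat.coprime_primes hr Nat.prime_three).2 hr3).pow_right _
  have hgx : orderOf (g * x) = r * 3 ^ (k + 1) := by
    rw [hc.symm.orderOf_mul_eq_mul_orderOf_of_coprime hco, hg, hx]
  obtain ⟨M, hM⟩ := exists_isPModular (p := r) hr
  have hsmall : ∀ χ : IrrCharacter G, r ^ n ∣ deg (χ : G → ℂ) → Small M ((χ : G → ℂ) x) := by
    intro χ hd
    have h0 : (χ : G → ℂ) (g * x) = 0 :=
      eq_zero_of_defect_zero χ.2 hr hnG hnG' hd (hgx ▸ dvd_mul_right _ _)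
    have h1 := small_char_sub_regular hM (isCharacter_of_irr χ.2) (x := g * x) (a := g)
      ⟨x, rfl, hc.symm, ⟨1, by rw [pow_one]; exact hg⟩, by
        rw [hx]; exact fun h => hr3 ((Nat.prime_dvd_prime_iff_eq hr Nat.prime_three).1 (hr.dvd_of_dvd_pow h))⟩
    rw [h0, inv_mul_cancel_left, zero_sub] at h1
    simpa using h1.neg
  have hc0 : (c : G → ℂ) x = 0 := by
    refine eq_zero_of_defect_zero c.2 Nat.prime_three (n := 3 * (2 * m + 1)) ?_ ?_ ?_ (hx ▸ dvd_pow_self 3 (Nat.succ_ne_zero k))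
    · rw [hGf, pow_mul', hF]; exact (dvd_mul_right _ _).mul_right _
    · rw [hGf, pow_succ, pow_mul', ← hF, mul_assoc]
      intro h
      have h' := Nat.dvd_of_mul_dvd_mul_left (by positivity) h
      obtain ⟨u, hu⟩ := h3q
      rcases Nat.prime_three.dvd_mul.1 h' with h'' | h''
      · rcases Nat.prime_three.dvd_mul.1 h'' with e | e <;> omega
      · have : (3 : ℤ) ∣ (q : ℤ) ^ 2 - q + 1 := hD2z ▸ Int.natCast_dvd_natCast.2 h''
        rw [show (q : ℤ) = 3 * (u : ℤ) by exact_mod_cast hu] at this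
        obtain ⟨w, hw⟩ := this
        have : (3 : ℤ) ∣ 1 := ⟨w - 3 * (u : ℤ) ^ 2 + u, by linear_combination hw⟩
        omega
    · rw [hdc, pow_mul', hF]
  have hodd : Odd (orderOf x) := hx ▸ Odd.pow (by decide)
  have h := hsum x hodd
  rw [hc0, mul_zero, add_zero] at h
  refine not_small_one (M := M) ?_
  rw [← h]
  exact ((hsmall a (hda' ▸ hn)).mem_mul (intCast_mem_place _)).add
    ((hsmall b (hdb' ▸ hn.mul_left q)).mem_mul (intCast_mem_place _))

end Cfsg.Lib.ReeAb
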